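/-
`Ω⁻₈(2)`: existence of orthogonal vectors, Eichler elements, commuting lifts.
-/
import Cfsg.Agent.H97.Omega.Sphere
import Cfsg.Agent.Orthogonal.MaxTS
import Cfsg.Agent.Linear.Mult.Killed

set_option autoImplicit false
set_option linter.unusedSectionVars false

namespace Cfsg.Agent.H97.Omega.MinusTwo

open QuadraticMap Module
open Cfsg.Agent.Orthogonal Cfsg.Agent.Linear.Mult
open scoped commutatorElement

universe u v

variable {F : Type u} {V : Type v} [Field F] [Finite F] [AddCommGroup V] [Module F V]
  [FiniteDimensional F V]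

/-- Eight-dimensional minus type over two elements. -/
structure Minus8 (Q : QuadraticForm F V) : Prop where
  hQ : Nondeg Q
  two : Nat.card F = 2
  dim : finrank F V = 8
  ind : ∀ W : Submodule F V, TotSing Q W → finrank F W ≤ 3

variable {Q : QuadraticForm F V}

namespace Minus8

variable (M : Minus8 Q)
include M

theorem bit (x : F) : x = 0 ∨ x = 1 := by
  have := Fintype.ofFinite F
  have h : Fintype.card F = 2 := by rw [← Nat.card_eq_fintype_card]; exact M.two
  by_contra hx
  push Not at hx
  classical
  have := Finset.card_le_card (Finset.subset_univ ({0, 1, x} : Finset F))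
  rw [Finset.card_univ, h, Finset.card_eq_three.2 ⟨0, 1, x, zero_ne_one, hx.1.symm, hx.2.symm, rfl⟩]
    at this
  omega

theorem two_eq : (2 : F) = 0 := by
  rcases M.bit 2 with h | h
  · exact h
  · exact absurd (show (1 : F) = 0 by linear_combination h) one_ne_zero

theorem eq_one {x : F} (h : x ≠ 0) : x = 1 := (M.bit x).resolve_left h

theorem self_add (x : V) : x + x = 0 := by rw [← two_smul F x, M.two_eq, zero_smul]

theorem neg_eq (x : V) : -x = x := neg_eq_of_add_eq_zero_left (M.self_add x)

theorem sub_eq (x y : V) : x - y = x + y := by rw [sub_eq_add_neg, M.neg_eq]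

theorem add_add_cancel (x y : V) : x + (x + y) = y := by rw [← add_assoc, M.self_add, zero_add]

theorem bneg (x : F) : -x = x := by
  rcases M.bit x with rfl | rfl
  · exact neg_zero
  · linear_combination (-1 : F) * M.two_eq

theorem polar_self (x : V) : polar Q x x = 0 := by rw [polar_self', M.two_eq, zero_mul]

/-- A non-singular vector orthogonal to a small subspace. -/
theorem exists_one (S : Submodule F V) (h : finrank F S ≤ 4) : ∃ p ∈ perp Q S, Q p = 1 := by
  by_contra hc
  push Not at hc
  have := M.ind (perp Q S) fun w hw => (M.bit (Q w)).resolve_right (hc w hw)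
  have := M.hQ.finrank_add_perp S
  have := M.dim
  omega

theorem exists_one_family {k : ℕ} (v : Fin k → V) (hk : k ≤ 4) :
    ∃ p, (∀ i, polar Q (v i) p = 0) ∧ Q p = 1 := by
  obtain ⟨p, hp, h1⟩ := M.exists_one (Submodule.span F (Set.range v))
    ((finrank_span_le v).trans hk)
  exact ⟨p, fun i => hp _ (Submodule.subset_span ⟨i, rfl⟩), h1⟩

theorem exists_one_five (v : Fin 5 → V) (h0 : Q (v 0) = 0) (h1 : polar Q (v 1) (v 0) ≠ 0) :
    ∃ p, (∀ i, polar Q (v i) p = 0) ∧ Q p = 1 := by
  by_contra hc
  push Not at hc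
  set S := Submodule.span F (Set.range v) with hS
  have hts : TotSing Q (perp Q S) := fun w hw =>
    (M.bit (Q w)).resolve_right (hc w fun i => hw _ (Submodule.subset_span ⟨i, rfl⟩))
  have hp : v 0 ∈ perp Q (perp Q S) := by
    rw [M.hQ.perp_perp]; exact Submodule.subset_span ⟨0, rfl⟩
  have hn : v 0 ∉ perp Q S := fun h => h1 (h _ (Submodule.subset_span ⟨1, rfl⟩))
  have hd := finrank_sup_span hn
  have := M.ind _ (hts.sup_span hp h0)
  have := M.hQ.finrank_add_perp S
  have := M.dim
  have : finrank F S ≤ 5 := finrank_span_le v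
  omega

/-- A vector of prescribed product outside the orthogonal of the orthogonal. -/
theorem exists_dual (S : Submodule F V) {w : V} (hw : w ∉ S) :
    ∃ u ∈ perp Q S, polar Q w u = 1 := by
  by_contra hc
  push Not at hc
  refine hw ?_
  rw [← M.hQ.perp_perp S]
  intro u hu
  rw [polar_comm]
  exact (M.bit _).resolve_right (hc u hu)

theorem ts_triple {a b c : V} (ha : Q a = 0) (hb : Q b = 0) (hc : Q c = 0)
    (hab : polar Q a b = 0) (hac : polar Q a c = 0) (hbc : polar Q b c = 0) :
    TotSing Q (Submodule.span F {a, b, c}) := by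
  intro w hw
  obtain ⟨r, s, t, rfl⟩ := Submodule.mem_span_triple.1 hw
  simp [map_add_polar, qmap_smul, polar_smul_left', polar_smul_right', polar_add_left, ha, hb, hc,
    hab, hac, hbc]

/-- A non-singular partner of a non-singular vector, orthogonal to a singular triple. -/
theorem exists_partner_one {a b c w : V} (ha : Q a = 0) (hb : Q b = 0) (hc : Q c = 0)
    (hab : polar Q a b = 0) (hac : polar Q a c = 0) (hbc : polar Q b c = 0)
    (hwa : polar Q a w = 0) (hwb : polar Q b w = 0) (hwc : polar Q c w = 0) (hw : Q w = 1) :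
    ∃ u, polar Q a u = 0 ∧ polar Q b u = 0 ∧ polar Q c u = 0 ∧ polar Q w u = 1 ∧ Q u = 1 := by
  have hts := M.ts_triple ha hb hc hab hac hbc
  obtain ⟨u₀, hu, hwu⟩ := M.exists_dual (Submodule.span F {a, b, c})
    (fun h => one_ne_zero (hw.symm.trans (hts w h)))
  have hm : ∀ x ∈ ({a, b, c} : Set V), polar Q x u₀ = 0 := fun x hx => hu x (Submodule.subset_span hx)
  rcases M.bit (Q u₀) with h0 | h1
  · have hts' := hts.sup_span hu h0
    set S := Submodule.span F {a, b, c} ⊔ Submodule.span F {u₀} ⊔ Submodule.span F {w} with hS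
    have hd : finrank F S ≤ 4 := by
      have := Submodule.finrank_add_le_finrank_add_finrank
        (Submodule.span F {a, b, c} ⊔ Submodule.span F {u₀}) (Submodule.span F {w})
      have := M.ind _ hts'
      have h1 : finrank F (Submodule.span F ({w} : Set V)) ≤ 1 :=
        (finrank_span_le_card _).trans (by simp)
      rw [← hS] at *
      omega
    obtain ⟨z, hz, hz1⟩ := M.exists_one S hd
    have hzm : ∀ x ∈ ({a, b, c} : Set V), polar Q x z = 0 := fun x hx =>
      hz x (Submodule.mem_sup_left (Submodule.mem_sup_left (Submodule.subset_span hx)))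
    have hzu : polar Q u₀ z = 0 :=
      hz _ (Submodule.mem_sup_left (Submodule.mem_sup_right (Submodule.mem_span_singleton_self _)))
    have hzw : polar Q w z = 0 :=
      hz _ (Submodule.mem_sup_right (Submodule.mem_span_singleton_self _))
    refine ⟨u₀ + z, ?_, ?_, ?_, ?_, ?_⟩
    · rw [polar_add_right, hm a (by simp), hzm a (by simp), add_zero]
    · rw [polar_add_right, hm b (by simp), hzm b (by simp), add_zero]
    · rw [polar_add_right, hm c (by simp), hzm c (by simp), add_zero]
    · rw [polar_add_right, hwu, hzw, add_zero]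
    · rw [map_add_polar, h0, hz1, hzu, zero_add, add_zero]
  · exact ⟨u₀, hm a (by simp), hm b (by simp), hm c (by simp), hwu, h1⟩

end Minus8

/-- The action of an element of `Ω`. -/
abbrev ap (g : commutator (O Q)) (x : V) : V := ((g : O Q) : V ≃ₗ[F] V) x

theorem ap_mul (g h : commutator (O Q)) (x : V) : ap (g * h) x = ap g (ap h x) := rfl

theorem ap_one (x : V) : ap (1 : commutator (O Q)) x = x := rfl

theorem ap_inv_self (g : commutator (O Q)) (x : V) : ap g⁻¹ (ap g x) = x := by
  rw [← ap_mul, inv_mul_cancel, ap_one]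

theorem ap_self_inv (g : commutator (O Q)) (x : V) : ap g (ap g⁻¹ x) = x := by
  rw [← ap_mul, mul_inv_cancel, ap_one]

theorem ap_polar (g : commutator (O Q)) (x y : V) : polar Q (ap g x) (ap g y) = polar Q x y :=
  O.polar_app _ x y

theorem ap_q (g : commutator (O Q)) (x : V) : Q (ap g x) = Q x := O.map_app _ x

theorem ext_ap {g h : commutator (O Q)} (H : ∀ x, ap g x = ap h x) : g = h :=
  Subtype.ext (O.ext_app H)

open Classical in
/-- An Eichler element. -/
noncomputable def es (Q : QuadraticForm F V) (u w : V) : commutator (O Q) :=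
  if h : Q u = 0 ∧ polar Q u w = 0 then
    if h' : sie u w h.1 h.2 ∈ commutator (O Q) then ⟨_, h'⟩ else 1
  else 1

namespace Minus8

variable (M : Minus8 Q)
include M

theorem es_app {u w : V} (hu : Q u = 0) (hw : polar Q u w = 0) (x : V) :
    ap (es Q u w) x = x + (polar Q w x + Q w * polar Q u x) • u + polar Q u x • w := by
  have hm : sie u w hu hw ∈ commutator (O Q) := by
    rw [← sieGroup_eq_commutator M.hQ (by rw [M.dim]; omega)]
    exact sie_mem hu hw
  rw [ap, es, dif_pos ⟨hu, hw⟩, dif_pos hm, sie_app, M.sub_eq, sub_eq_add_neg, M.bneg]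

theorem es_fix {u w x : V} (hu : Q u = 0) (hw : polar Q u w = 0) (h1 : polar Q u x = 0)
    (h2 : polar Q w x = 0) : ap (es Q u w) x = x := by
  rw [M.es_app hu hw, h1, h2]; simp

theorem es_conj {u w : V} (hu : Q u = 0) (hw : polar Q u w = 0) (g : commutator (O Q)) :
    g * es Q u w * g⁻¹ = es Q (ap g u) (ap g w) := by
  refine ext_ap fun x => ?_
  obtain ⟨y, rfl⟩ : ∃ y, ap g y = x := ⟨ap g⁻¹ x, ap_self_inv g x⟩
  rw [ap_mul, ap_mul, ap_inv_self, M.es_app hu hw,
    M.es_app (by rw [ap_q]; exact hu) (by rw [ap_polar]; exact hw), ap_polar, ap_polar, ap_q]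
  simp only [ap, map_add, map_smul]

theorem es_zero (u : V) (hu : Q u = 0) : es Q u 0 = 1 := by
  refine ext_ap fun x => ?_
  rw [M.es_app hu (polar_zero_right (Q := Q) u), ap_one]
  simp

theorem es_zero_left (w : V) : es Q 0 w = 1 := by
  refine ext_ap fun x => ?_
  rw [M.es_app (QuadraticMap.map_zero Q) (polar_zero_left (Q := Q) w), ap_one]
  simp

theorem es_mul {u w w' : V} (hu : Q u = 0) (hw : polar Q u w = 0) (hw' : polar Q u w' = 0) :
    es Q u w * es Q u w' = es Q u (w + w') := by
  refine ext_ap fun x => ?_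
  rw [ap_mul, M.es_app hu hw', M.es_app hu hw, M.es_app hu (by rw [polar_add_right, hw, hw', add_zero])]
  simp only [polar_add_right, polar_smul_right', polar_add_left, map_add_polar,
    polar_self', hu, hw, hw', polar_comm (⇑Q) w u]
  match_scalars <;> linear_combination (0 : F) * M.two_eq

theorem es_sq {u w : V} (hu : Q u = 0) (hw : polar Q u w = 0) : es Q u w * es Q u w = 1 := by
  rw [M.es_mul hu hw hw, M.self_add, M.es_zero u hu]

theorem es_inv {u w : V} (hu : Q u = 0) (hw : polar Q u w = 0) : (es Q u w)⁻¹ = es Q u w :=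
  inv_eq_of_mul_eq_one_right (M.es_sq hu hw)

theorem es_swap {u w : V} (hu : Q u = 0) (hw : Q w = 0) (huw : polar Q u w = 0) :
    es Q u w = es Q w u := by
  refine ext_ap fun x => ?_
  rw [M.es_app hu huw, M.es_app hw (by rw [polar_comm]; exact huw), hu, hw]
  match_scalars <;> ring

/-- An element fixing two vectors commutes with their Eichler element. -/
theorem es_commute {a b : V} (ha : Q a = 0) (hab : polar Q a b = 0) {g : commutator (O Q)}
    (hga : ap g a = a) (hgb : ap g b = b) : Commute (es Q a b) g := by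
  have := M.es_conj ha hab g
  rw [hga, hgb, mul_inv_eq_iff_eq_mul] at this
  exact this.symm

theorem es_commutator {u w : V} (hu : Q u = 0) (hw : polar Q u w = 0) {h : commutator (O Q)}
    (hh : ap h u = u) : ⁅h, es Q u w⁆ = es Q u (ap h w + w) := by
  have hw' : polar Q u (ap h w) = 0 := by
    conv_lhs => rw [← hh]
    rw [ap_polar, hw]
  rw [commutatorElement_def, M.es_conj hu hw, hh, M.es_inv hu hw, M.es_mul hu hw' hw]

/-- The product of two reflections lies in `Ω`. -/
theorem refl_pair {u w : V} (hu : Q u ≠ 0) (hw : Q w ≠ 0) :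
    rO Q u * rO Q w ∈ commutator (O Q) := by
  have hgen := reflGroup_eq_top M.hQ (Or.inr (by rw [M.dim]; omega))
  rw [commutator_eq_ker_dickson M.hQ hgen M.two_eq, MonoidHom.mem_ker, map_mul,
    dickson_rO M.hQ hgen hu, dickson_rO M.hQ hgen hw]
  decide

theorem rO_one {u : V} (hu : Q u = 1) (x : V) :
    (rO Q u : V ≃ₗ[F] V) x = x + polar Q u x • u := by
  rw [rO_app, hu, inv_one, one_mul, M.sub_eq]

theorem conj_commutes {a b : V} {X : Type*} [Group X] (E : CExtData X (commutator (O Q)))
    (ha : Q a = 0) (hab : polar Q a b = 0) {g : commutator (O Q)}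
    (hga : ap g a = a) (hgb : ap g b = b) {h : commutator (O Q)}
    (hha : ap h a = a) (hhb : ap h b = b) : E.cm ⁅g, h⁆ (es Q a b) = 1 :=
  E.cm_symm (E.cm_commutator_eq_one (M.es_commute ha hab hga hgb) (M.es_commute ha hab hha hhb))

/-- Eichler elements in the stabiliser of a singular line commute with its root element, in
every central extension. -/
theorem cm_root {X : Type*} [Group X] (E : CExtData X (commutator (O Q))) {a b c w : V}
    (ha : Q a = 0) (hb : Q b = 0) (hc : Q c = 0) (hab : polar Q a b = 0)
    (hac : polar Q a c = 0) (hbc : polar Q b c = 0) (hwa : polar Q a w = 0)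
    (hwb : polar Q b w = 0) (hwc : polar Q c w = 0) :
    E.cm (es Q c w) (es Q a b) = 1 := by
  have key : ∀ w, polar Q a w = 0 → polar Q b w = 0 → polar Q c w = 0 → Q w = 1 →
      E.cm (es Q c w) (es Q a b) = 1 := by
    intro w hwa hwb hwc hw
    obtain ⟨u, hua, hub, huc, hwu, hu⟩ := M.exists_partner_one ha hb hc hab hac hbc hwa hwb hwc hw
    set h : commutator (O Q) :=
      ⟨rO Q u * rO Q w, M.refl_pair (by rw [hu]; exact one_ne_zero) (by rw [hw]; exact one_ne_zero)⟩
      with hh
    have hfix : ∀ x, polar Q w x = 0 → polar Q u x = 0 → ap h x = x := fun x h1 h2 => by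
      rw [hh, ap, Subgroup.coe_mul, Orthogonal.mul_app, rO_fix h1, rO_fix h2]
    have hcw : polar Q c (u + w) = 0 := by rw [polar_add_right, huc, hwc, add_zero]
    have hha : ap h a = a := hfix a (by rw [polar_comm]; exact hwa) (by rw [polar_comm]; exact hua)
    have hhb : ap h b = b := hfix b (by rw [polar_comm]; exact hwb) (by rw [polar_comm]; exact hub)
    have hhc : ap h c = c := hfix c (by rw [polar_comm]; exact hwc) (by rw [polar_comm]; exact huc)
    have hhu : ap h (u + w) + (u + w) = w := by
      rw [hh, ap, Subgroup.coe_mul, Orthogonal.mul_app, M.rO_one hw, M.rO_one hu]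
      simp only [polar_add_right, polar_smul_right', M.polar_self, hwu, polar_comm (⇑Q) u w,
        add_zero, zero_add, one_smul, mul_zero, mul_one]
      match_scalars <;>
        first | ring1 | linear_combination M.two_eq | linear_combination (2 : F) * M.two_eq
    have he := M.es_commutator hc hcw hhc
    rw [hhu] at he
    rw [← he]
    refine M.conj_commutes E ha hab hha hhb ?_ ?_ <;>
      refine M.es_fix hc hcw (by rw [polar_comm]; assumption) ?_ <;>
      simp [polar_add_left, polar_comm (⇑Q) u, polar_comm (⇑Q) w, *]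
  rcases M.bit (Q w) with h0 | h1
  swap
  · exact key w hwa hwb hwc h1
  obtain ⟨p, hp, hp1⟩ := M.exists_one_family ![a, b, c, w] le_rfl
  have hpa : polar Q a p = 0 := hp 0
  have hpb : polar Q b p = 0 := hp 1
  have hpc : polar Q c p = 0 := hp 2
  have hpw : polar Q w p = 0 := hp 3
  have hcom : Commute (es Q c p) (es Q a b) :=
    (M.es_commute ha hab (M.es_fix hc hpc (by rw [polar_comm]; exact hac) (by rw [polar_comm]; exact hpa))
      (M.es_fix hc hpc (by rw [polar_comm]; exact hbc) (by rw [polar_comm]; exact hpb))).symm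
  have e : es Q c w = es Q c (w + p) * es Q c p := by
    rw [M.es_mul hc (by rw [polar_add_right, hwc, hpc, add_zero]) hpc, add_assoc, M.self_add, add_zero]
  rw [e, E.cm_mul_left_of_commute hcom, key p hpa hpb hpc hp1, key (w + p)
    (by rw [polar_add_right, hwa, hpa, add_zero]) (by rw [polar_add_right, hwb, hpb, add_zero])
    (by rw [polar_add_right, hwc, hpc, add_zero])
    (by rw [map_add_polar, h0, hp1, hpw, zero_add, add_zero]), one_mul]

end Minus8

end Cfsg.Agent.H97.Omega.MinusTwo
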