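/-
`Ω⁻₈(2)`: canonical lifts of root elements in central extensions, as commutators of lifts.
-/
import Cfsg.Agent.H97.Omega.MinusTwo.Basic

set_option autoImplicit false
set_option linter.unusedSectionVars false

namespace Cfsg.Agent.H97.Omega.MinusTwo

open QuadraticMap Module
open Cfsg.Agent.Orthogonal Cfsg.Agent.Linear.Mult
open scoped commutatorElement

universe u v w

variable {F : Type u} {V : Type v} [Field F] [Finite F] [AddCommGroup V] [Module F V]
  [FiniteDimensional F V] {Q : QuadraticForm F V} {X : Type w} [Group X]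

/-- `a`, `b` lie over the line `e, s`. -/
structure Over (Q : QuadraticForm F V) (e s a : V) : Prop where
  e : polar Q e a = 0
  s : polar Q s a = 0

theorem Over.add {e s a b : V} (ha : Over Q e s a) (hb : Over Q e s b) : Over Q e s (a + b) :=
  ⟨by rw [polar_add_right, ha.e, hb.e, add_zero], by rw [polar_add_right, ha.s, hb.s, add_zero]⟩

/-- A totally singular line. -/
structure Line (Q : QuadraticForm F V) (e s : V) : Prop where
  qe : Q e = 0
  qs : Q s = 0
  es : polar Q e s = 0

variable (E : CExtData X (commutator (O Q)))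

/-- The commutator of lifts. -/
noncomputable def beta (e s a b : V) : X := E.cm (es Q e a) (es Q s b)

open Classical in
/-- The canonical lift of a root element. -/
noncomputable def rl (e s : V) : X :=
  if h : ∃ a b, Over Q e s a ∧ Over Q e s b ∧ polar Q a b = 1 then
    beta E e s h.choose h.choose_spec.choose
  else 1

variable (M : Minus8 Q) {e s : V} (L : Line Q e s)
include M L

theorem fix_right {a : V} (ha : Over Q e s a) : ap (es Q e a) s = s :=
  M.es_fix L.qe ha.e L.es (by rw [polar_comm]; exact ha.s)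

theorem beta_group {a b : V} (ha : Over Q e s a) (hb : Over Q e s b) :
    ⁅es Q e a, es Q s b⁆ = es Q s (polar Q a b • e) := by
  rw [M.es_commutator L.qs hb.s (fix_right M L ha), M.es_app L.qe ha.e, hb.e, mul_zero, add_zero,
    zero_smul, add_zero, add_comm b, add_assoc, M.self_add, add_zero]

theorem beta_group_one {a b : V} (ha : Over Q e s a) (hb : Over Q e s b) (h : polar Q a b = 1) :
    ⁅es Q e a, es Q s b⁆ = es Q e s := by
  rw [beta_group M L ha hb, h, one_smul, ← M.es_swap L.qe L.qs L.es]

theorem cm_left_root {a : V} (ha : Over Q e s a) : E.cm (es Q e a) (es Q e s) = 1 :=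
  M.cm_root E L.qe L.qs L.qe L.es (M.polar_self e) (by rw [polar_comm]; exact L.es) ha.e ha.s ha.e

theorem cm_right_root {b : V} (hb : Over Q e s b) : E.cm (es Q s b) (es Q e s) = 1 :=
  M.cm_root E L.qe L.qs L.qs L.es L.es (M.polar_self s) hb.e hb.s hb.s

theorem commute_beta {a b : V} (ha : Over Q e s a) (hb : Over Q e s b) {g : commutator (O Q)}
    (hg : E.cm g (es Q e s) = 1) {x : X} (hx : E.proj x = g) : Commute x (beta E e s a b) := by
  rcases M.bit (polar Q a b) with h | h
  · have hp : E.proj (beta E e s a b) = 1 := by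
      rw [beta, E.proj_cm, beta_group M L ha hb, h, zero_smul, M.es_zero s L.qs]
    exact (Subgroup.mem_center_iff.1 (E.central hp) x :)
  · exact E.commute_of_cm hg hx (by rw [beta, E.proj_cm, beta_group_one M L ha hb h])

theorem beta_add_left {a a' b : V} (ha : Over Q e s a) (ha' : Over Q e s a') (hb : Over Q e s b) :
    beta E e s (a + a') b = beta E e s a' b * beta E e s a b := by
  have h := commute_beta E M L ha' hb (cm_left_root E M L ha) (E.proj_lift (es Q e a))
  rw [beta, ← M.es_mul L.qe ha.e ha'.e, E.cm_mul_left]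
  show E.lift (es Q e a) * beta E e s a' b * _ * _ = _
  rw [h.eq, mul_inv_cancel_right]
  rfl

theorem beta_add_right {a b b' : V} (ha : Over Q e s a) (hb : Over Q e s b) (hb' : Over Q e s b') :
    beta E e s a (b + b') = beta E e s a b * beta E e s a b' := by
  have h := commute_beta E M L ha hb' (cm_right_root E M L hb) (E.proj_lift (es Q s b))
  rw [beta, ← M.es_mul L.qs hb.s hb'.s, E.cm_mul_right]
  show beta E e s a b * (E.lift (es Q s b) * beta E e s a b' * _) = _
  rw [h.eq, mul_inv_cancel_right]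

theorem beta_zero_left {b : V} (hb : Over Q e s b) {a : V} (ha : Over Q e s a) (h : Q a = 0)
    (hab : polar Q a b = 0) : beta E e s a b = 1 :=
  E.cm_symm (M.cm_root E L.qe h L.qs ha.e L.es (by rw [polar_comm]; exact ha.s) hb.e hab hb.s)

theorem beta_out {a b : V} (ha : Over Q e s a) (hb : Over Q e s b) (hab : polar Q a b = 0)
    (hqa : Q a = 1) (hqb : Q b = 1) (hn : a ∉ Submodule.span F {e, s, b}) :
    beta E e s a b = 1 := by
  obtain ⟨z, hz, haz⟩ := M.exists_dual _ hn
  have hze : polar Q e z = 0 := hz e (Submodule.subset_span (by simp))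
  have hzs : polar Q s z = 0 := hz s (Submodule.subset_span (by simp))
  have hzb : polar Q b z = 0 := hz b (Submodule.subset_span (by simp))
  obtain ⟨y, hy, hyb, hay, hy0⟩ : ∃ y, Over Q e s y ∧ polar Q y b = 0 ∧ polar Q a y = 1 ∧ Q y = 0 := by
    rcases M.bit (Q z) with h0 | h1
    · exact ⟨z, ⟨hze, hzs⟩, by rw [polar_comm]; exact hzb, haz, h0⟩
    · refine ⟨z + b, (⟨hze, hzs⟩ : Over Q e s z).add hb, ?_, ?_, ?_⟩
      · rw [polar_add_left, polar_comm (⇑Q) z b, hzb, M.polar_self, add_zero]
      · rw [polar_add_right, haz, hab, add_zero]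
      · rw [map_add_polar, h1, hqb, polar_comm (⇑Q) z b, hzb, add_zero]
        linear_combination M.two_eq
  have e1 : a = (a + y) + y := by rw [add_assoc, M.self_add, add_zero]
  rw [e1, beta_add_left E M L (ha.add hy) hy hb, beta_zero_left E M L hb hy hy0 hyb,
    beta_zero_left E M L hb (ha.add hy) (by rw [map_add_polar, hqa, hy0, hay, add_zero]; linear_combination M.two_eq)
      (by rw [polar_add_left, hab, hyb, add_zero]), one_mul]

theorem beta_orth {a b : V} (ha : Over Q e s a) (hb : Over Q e s b) (hab : polar Q a b = 0) :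
    beta E e s a b = 1 := by
  rcases M.bit (Q a) with hqa | hqa
  · exact beta_zero_left E M L hb ha hqa hab
  rcases M.bit (Q b) with hqb | hqb
  · exact M.cm_root E L.qs hqb L.qe hb.s (by rw [polar_comm]; exact L.es)
      (by rw [polar_comm]; exact hb.e) ha.s (by rw [polar_comm]; exact hab) ha.e
  by_cases hn : a ∈ Submodule.span F {e, s, b}
  swap
  · exact beta_out E M L ha hb hab hqa hqb hn
  obtain ⟨u, hue, hus, -, hbu, hqu⟩ := M.exists_partner_one L.qe L.qs L.qe L.es (M.polar_self e)
    (by rw [polar_comm]; exact L.es) hb.e hb.s hb.e hqb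
  obtain ⟨p, hp, hp1⟩ := M.exists_one_family ![e, s, b, u] le_rfl
  have hpe : polar Q e p = 0 := hp 0
  have hps : polar Q s p = 0 := hp 1
  have hpb : polar Q b p = 0 := hp 2
  have hpu : polar Q u p = 0 := hp 3
  obtain ⟨r, t, c, hc⟩ := Submodule.mem_span_triple.1 hn
  have hap : polar Q a p = 0 := by
    rw [← hc]; simp [polar_add_left, polar_smul_left', hpe, hps, hpb]
  have hout : p ∉ Submodule.span F {e, s, b} := by
    intro h
    obtain ⟨r, t, c, rfl⟩ := Submodule.mem_span_triple.1 h
    simp only [polar_add_right, polar_smul_right', polar_comm (⇑Q) u e, polar_comm (⇑Q) u s,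
      polar_comm (⇑Q) u b, hue, hus, hbu, mul_zero, zero_add, mul_one] at hpu
    subst hpu
    rw [zero_smul, add_zero] at hp1
    simp [map_add_polar, qmap_smul, L.qe, L.qs, L.es, polar_smul_left', polar_smul_right'] at hp1
  have hp' : Over Q e s p := ⟨hpe, hps⟩
  have e1 : a = (a + p) + p := by rw [add_assoc, M.self_add, add_zero]
  rw [e1, beta_add_left E M L (ha.add hp') hp' hb,
    beta_out E M L hp' hb (by rw [polar_comm]; exact hpb) hp1 hqb hout,
    beta_zero_left E M L hb (ha.add hp') (by rw [map_add_polar, hqa, hp1, hap, add_zero]; linear_combination M.two_eq)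
      (by rw [polar_add_left, hab, polar_comm (⇑Q) p b, hpb, add_zero]), one_mul]

theorem beta_sq {a b : V} (ha : Over Q e s a) (hb : Over Q e s b) :
    beta E e s a b * beta E e s a b = 1 := by
  rw [← beta_add_left E M L ha ha hb, beta_orth E M L (ha.add ha) hb]
  rw [M.self_add, polar_zero_left (Q := Q) b]

theorem beta_const_left {a a' b : V} (ha : Over Q e s a) (ha' : Over Q e s a') (hb : Over Q e s b)
    (h : polar Q a b = 1) (h' : polar Q a' b = 1) : beta E e s a b = beta E e s a' b := by
  have h1 := beta_orth E M L (ha.add ha') hb (by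
    rw [polar_add_left, h, h']; linear_combination M.two_eq)
  rw [beta_add_left E M L ha ha' hb] at h1
  rw [eq_inv_of_mul_eq_one_right h1]
  exact inv_eq_of_mul_eq_one_right (beta_sq E M L ha' hb)

theorem beta_const_right {a b b' : V} (ha : Over Q e s a) (hb : Over Q e s b) (hb' : Over Q e s b')
    (h : polar Q a b = 1) (h' : polar Q a b' = 1) : beta E e s a b = beta E e s a b' := by
  have h1 := beta_orth E M L ha (hb.add hb') (by
    rw [polar_add_right, h, h']; linear_combination M.two_eq)
  rw [beta_add_right E M L ha hb hb'] at h1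
  rw [eq_inv_of_mul_eq_one_left h1]
  exact inv_eq_of_mul_eq_one_right (beta_sq E M L ha hb')

theorem beta_const {a b a' b' : V} (ha : Over Q e s a) (hb : Over Q e s b) (ha' : Over Q e s a')
    (hb' : Over Q e s b') (h : polar Q a b = 1) (h' : polar Q a' b' = 1) :
    beta E e s a b = beta E e s a' b' := by
  rcases M.bit (polar Q a' b) with h0 | h1
  swap
  · exact (beta_const_left E M L ha ha' hb h h1).trans (beta_const_right E M L ha' hb hb' h1 h')
  rcases M.bit (polar Q a b') with h2 | h3
  swap
  · exact (beta_const_right E M L ha hb hb' h h3).trans (beta_const_left E M L ha ha' hb' h3 h')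
  have hbb := hb.add hb'
  have h4 : polar Q a (b + b') = 1 := by rw [polar_add_right, h, h2, add_zero]
  have h5 : polar Q a' (b + b') = 1 := by rw [polar_add_right, h0, h', zero_add]
  exact ((beta_const_right E M L ha hb hbb h h4).trans (beta_const_left E M L ha ha' hbb h4 h5)).trans
    (beta_const_right E M L ha' hbb hb' h5 h')

omit L in
theorem exists_pair {t : V} (hqe : Q e = 0) (hqs : Q s = 0) (hqt : Q t = 0)
    (hes : polar Q e s = 0) (het : polar Q e t = 0) (hst : polar Q s t = 0) :
    ∃ a b, Over Q e s a ∧ Over Q e s b ∧ polar Q t a = 0 ∧ polar Q t b = 0 ∧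
      polar Q a b = 1 ∧ Q a = 1 ∧ Q b = 1 := by
  obtain ⟨p, hp, hp1⟩ := M.exists_one_family ![e, s, t] (by norm_num)
  obtain ⟨u, hue, hus, hut, hpu, hu1⟩ := M.exists_partner_one hqe hqs hqt hes het hst
    (hp 0) (hp 1) (hp 2) hp1
  exact ⟨p, u, ⟨hp 0, hp 1⟩, ⟨hue, hus⟩, hp 2, hut, hpu, hp1, hu1⟩

theorem rl_eq {a b : V} (ha : Over Q e s a) (hb : Over Q e s b) (hab : polar Q a b = 1) :
    rl E e s = beta E e s a b := by
  have h : ∃ a b, Over Q e s a ∧ Over Q e s b ∧ polar Q a b = 1 := ⟨a, b, ha, hb, hab⟩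
  obtain ⟨h1, h2, h3⟩ := h.choose_spec.choose_spec
  rw [rl, dif_pos h]
  exact beta_const E M L h1 h2 ha hb h3 hab

theorem exists_rl : ∃ a b, Over Q e s a ∧ Over Q e s b ∧ polar Q a b = 1 ∧
    rl E e s = beta E e s a b := by
  obtain ⟨a, b, ha, hb, -, -, hab, -, -⟩ := exists_pair M (t := e) L.qe L.qs L.qe L.es
    (M.polar_self e) (by rw [polar_comm]; exact L.es)
  exact ⟨a, b, ha, hb, hab, rl_eq E M L ha hb hab⟩

theorem proj_rl : E.proj (rl E e s) = es Q e s := by
  obtain ⟨a, b, ha, hb, hab, he⟩ := exists_rl E M L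
  rw [he, beta, E.proj_cm, beta_group_one M L ha hb hab]

theorem rl_sq : rl E e s * rl E e s = 1 := by
  obtain ⟨a, b, ha, hb, hab, he⟩ := exists_rl E M L
  rw [he]; exact beta_sq E M L ha hb

theorem rl_inv : (rl E e s)⁻¹ = rl E e s := inv_eq_of_mul_eq_one_right (rl_sq E M L)

theorem rl_conj {y : X} {g : commutator (O Q)} (hy : E.proj y = g) :
    y * rl E e s * y⁻¹ = rl E (ap g e) (ap g s) := by
  obtain ⟨a, b, ha, hb, hab, he⟩ := exists_rl E M L
  have hO : ∀ {a}, Over Q e s a → Over Q (ap g e) (ap g s) (ap g a) := fun h =>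
    ⟨by rw [ap_polar]; exact h.e, by rw [ap_polar]; exact h.s⟩
  rw [he, rl_eq E M ⟨by rw [ap_q]; exact L.qe, by rw [ap_q]; exact L.qs, by rw [ap_polar]; exact L.es⟩
    (hO ha) (hO hb) (by rw [ap_polar]; exact hab), beta, beta, E.conj_cm hy,
    M.es_conj L.qe ha.e, M.es_conj L.qs hb.s]

theorem rl_commute {t : V} (L' : Line Q e t) (hst : polar Q s t = 0) :
    Commute (rl E e s) (rl E e t) :=
  (E.commute_of_cm (M.cm_root E L'.qe L'.qs L'.qe L'.es (M.polar_self e)
    (by rw [polar_comm]; exact L'.es) L.es (by rw [polar_comm]; exact hst) L.es)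
    (proj_rl E M L) (proj_rl E M L'))

theorem rl_add {t : V} (L' : Line Q e t) (hst : polar Q s t = 0) :
    rl E e (s + t) = rl E e s * rl E e t := by
  obtain ⟨a, b, ha, hb, hta, htb, hab, hqa, hqb⟩ :=
    exists_pair M L.qe L.qs L'.qs L.es L'.es hst
  have L'' : Line Q e (s + t) := ⟨L.qe, by rw [map_add_polar, L.qs, L'.qs, hst, add_zero, add_zero],
    by rw [polar_add_right, L.es, L'.es, add_zero]⟩
  have ha' : Over Q e t a := ⟨ha.e, hta⟩
  have hb' : Over Q e t b := ⟨hb.e, htb⟩
  have ha'' : Over Q e (s + t) a := ⟨ha.e, by rw [polar_add_left, ha.s, hta, add_zero]⟩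
  have hb'' : Over Q e (s + t) b := ⟨hb.e, by rw [polar_add_left, hb.s, htb, add_zero]⟩
  rw [rl_eq E M L'' ha'' hb'' hab, rl_eq E M L ha hb hab, rl_eq E M L' ha' hb' hab]
  have hsum : es Q (s + t) b = es Q s b * (es Q t b * es Q s t) := by
    refine ext_ap fun x => ?_
    rw [ap_mul, ap_mul, M.es_app L''.qs hb''.s, M.es_app L.qs hst, M.es_app L'.qs htb,
      M.es_app L.qs hb.s]
    simp only [map_add_polar, polar_add_left, polar_add_right, polar_smul_right', L.qs, L'.qs, hqb,
      hst, M.polar_self, hb.s, htb, polar_comm (⇑Q) b s, polar_comm (⇑Q) b t, polar_comm (⇑Q) t s]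
    match_scalars <;>
      first
        | ring1
        | linear_combination polar Q s x * M.two_eq
        | linear_combination -polar Q s x * M.two_eq
        | linear_combination polar Q t x * M.two_eq
        | linear_combination -polar Q t x * M.two_eq
  have h3 : E.cm (es Q e a) (es Q s t) = 1 :=
    M.cm_root E L.qs L'.qs L.qe hst (by rw [polar_comm]; exact L.es)
      (by rw [polar_comm]; exact L'.es) ha.s hta ha.e
  have h4 : E.cm (es Q s b) (es Q e t) = 1 :=
    M.cm_root E L'.qe L'.qs L.qs L'.es L.es (by rw [polar_comm]; exact hst) hb.e htb hb.s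
  simp only [beta]
  rw [hsum, E.cm_mul_right, E.cm_mul_right _ (es Q t b) (es Q s t), h3, mul_one, mul_inv_cancel, mul_one]
  have hp : E.proj (E.cm (es Q e a) (es Q t b)) = es Q e t := by
    rw [E.proj_cm, beta_group_one M L' ha' hb' hab]
  rw [(E.commute_of_cm h4 (E.proj_lift _) hp).eq, mul_inv_cancel_right]

end Cfsg.Agent.H97.Omega.MinusTwo
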