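/-
`Ω⁻₈(2)`: a subgroup `3 ≀ 3` (three orthogonal anisotropic planes) is killed in every central
extension with kernel of order three.
-/
import Cfsg.Agent.H97.Omega.MinusTwo.Basic

set_option autoImplicit false
set_option linter.unusedSectionVars false

namespace Cfsg.Agent.H97.Omega.MinusTwo

open QuadraticMap Module
open Cfsg.Agent.Orthogonal Cfsg.Agent.Linear.Mult
open scoped commutatorElement

universe u v w

variable {F : Type u} {V : Type v} [Field F] [Finite F] [AddCommGroup V] [Module F V]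
  [FiniteDimensional F V] {Q : QuadraticForm F V}

/-- Three orthogonal anisotropic planes and a hyperbolic pair. -/
structure Planes (Q : QuadraticForm F V) (a b : Fin 3 → V) (e f : V) : Prop where
  qa : ∀ i, Q (a i) = 1
  qb : ∀ i, Q (b i) = 1
  aa : ∀ i j, polar Q (a i) (a j) = 0
  bb : ∀ i j, polar Q (b i) (b j) = 0
  ab : ∀ i j, polar Q (a i) (b j) = if i = j then 1 else 0
  qe : Q e = 0
  qf : Q f = 0
  ef : polar Q e f = 1
  ae : ∀ i, polar Q (a i) e = 0
  af : ∀ i, polar Q (a i) f = 0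
  be : ∀ i, polar Q (b i) e = 0
  bf : ∀ i, polar Q (b i) f = 0

/-- Exponent three: powers. -/
theorem zpow_three {G : Type*} [Group G] {g : G} (hg : g ^ 3 = 1) (i : ℤ) :
    ∃ k : Fin 3, g ^ i = g ^ (k : ℕ) := by
  refine ⟨⟨(i % 3).toNat, by omega⟩, ?_⟩
  rw [zpow_eq_zpow_emod' i hg, ← zpow_natCast]
  congr 1
  simp only [Int.toNat_of_nonneg (Int.emod_nonneg i (by norm_num : (3 : ℤ) ≠ 0))]
  norm_num

variable (M : Minus8 Q)
include M

theorem exists_planes {e f : Fin 3 → V} (hf : IsFrame Q e f)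
    (ha : Aniso Q (IsFrame.kernel Q e f)) : ∃ a b e' f', Planes Q a b e' f' := by
  have hK := hf.nondeg_kernel M.hQ
  have hn : finrank F (IsFrame.kernel Q e f) = 2 := by
    have := hf.finrank_kernel M.hQ
    have := M.dim
    omega
  have : Nontrivial (IsFrame.kernel Q e f) := Module.nontrivial_of_finrank_pos (R := F) (by omega)
  obtain ⟨p, hp⟩ := exists_ne (0 : IsFrame.kernel Q e f)
  obtain ⟨q, hpq⟩ := hK.exists_polar_eq hp 1
  rw [polar_restr] at hpq
  have hp1 : Q (p : V) = 1 := M.eq_one fun h => hp (Subtype.ext (ha _ p.2 h))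
  have hq1 : Q (q : V) = 1 := M.eq_one fun h => by
    rw [ha _ q.2 h, polar_zero_right] at hpq
    exact zero_ne_one hpq
  have hp' := IsFrame.mem_kernel.1 p.2
  have hq' := IsFrame.mem_kernel.1 q.2
  have pe : ∀ i, polar Q (p : V) (e i) = 0 := fun i => by rw [polar_comm]; exact hp'.1 i
  have pf : ∀ i, polar Q (p : V) (f i) = 0 := fun i => by rw [polar_comm]; exact hp'.2 i
  have qe : ∀ i, polar Q (q : V) (e i) = 0 := fun i => by rw [polar_comm]; exact hq'.1 i
  have qf : ∀ i, polar Q (q : V) (f i) = 0 := fun i => by rw [polar_comm]; exact hq'.2 i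
  have hqp : polar Q (q : V) p = 1 := by rw [polar_comm]; exact hpq
  have h11 : (1 : F) + 1 = 0 := by linear_combination M.two_eq
  refine ⟨![e 0 + f 0, e 1 + f 1, p], ![e 0 + (e 1 + f 1), e 1 + (e 0 + f 0), q], e 2, f 2,
    ⟨fun i => ?_, fun i => ?_, fun i j => ?_, fun i j => ?_, fun i j => ?_, hf.qe 2, hf.qf 2,
      by simp [hf.ef], fun i => ?_, fun i => ?_, fun i => ?_, fun i => ?_⟩⟩
  all_goals first
    | (fin_cases i <;> fin_cases j <;>
        simp [map_add_polar, polar_add_left, polar_add_right, hf.qe, hf.qf, hf.ef, hf.fe, hf.ee,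
          hf.ff, hp1, hq1, hpq, hqp, pe, pf, qe, qf, hp'.1, hp'.2, hq'.1, hq'.2, M.polar_self, h11,
          Fin.ext_iff])
    | (fin_cases i <;>
        simp [map_add_polar, polar_add_left, polar_add_right, hf.qe, hf.qf, hf.ef, hf.fe, hf.ee,
          hf.ff, hp1, hq1, hpq, hqp, pe, pf, qe, qf, hp'.1, hp'.2, hq'.1, hq'.2, M.polar_self, h11,
          Fin.ext_iff])

theorem refl_comm {x y : V} (h : polar Q x y = 0) : Commute (rO Q x) (rO Q y) := by
  have := conj_rO (rO Q x) y
  rw [rO_fix h, mul_inv_eq_iff_eq_mul] at this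
  exact this

theorem refl_cube {x y : V} (hx : Q x = 1) (hy : Q y = 1) (hxy : polar Q x y = 1) :
    (rO Q x * rO Q y) ^ 3 = 1 := by
  have h1 := conj_rO (rO Q x) y
  have h2 := conj_rO (rO Q y) x
  rw [M.rO_one hx, hxy, one_smul, rO_inv] at h1
  rw [M.rO_one hy, polar_comm (⇑Q) y x, hxy, one_smul, rO_inv, add_comm x y, ← h1] at h2
  calc (rO Q x * rO Q y) ^ 3
      = (rO Q x * rO Q y * rO Q x) * (rO Q y * rO Q x * rO Q y) := by
        rw [pow_succ, pow_two]; simp only [mul_assoc]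
    _ = (rO Q x * rO Q y * rO Q x) * (rO Q x * rO Q y * rO Q x) := by rw [h2]
    _ = 1 := by
      rw [show rO Q x * rO Q y * rO Q x * (rO Q x * rO Q y * rO Q x) =
        rO Q x * rO Q y * (rO Q x * rO Q x) * rO Q y * rO Q x by simp only [mul_assoc],
        rO_mul_self, mul_one, mul_assoc (rO Q x), rO_mul_self, mul_one, rO_mul_self]

variable {a b : Fin 3 → V} {e f : V} (P : Planes Q a b e f)

/-- Rotation in a plane. -/
noncomputable def rot (a b : Fin 3 → V) (P : Planes Q a b e f) (i : Fin 3) : commutator (O Q) :=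
  ⟨rO Q (a i) * rO Q (b i), M.refl_pair (by rw [P.qa]; exact one_ne_zero) (by rw [P.qb]; exact one_ne_zero)⟩

include P

theorem li_planes :
    LinearIndependent F ![a 0, a 1, a 2, b 0, b 1, b 2, e, f] := by
  refine Fintype.linearIndependent_iff.2 fun g hg => ?_
  have key : ∀ y, ∑ i, g i * polar Q y (![a 0, a 1, a 2, b 0, b 1, b 2, e, f] i) = 0 := fun y => by
    have := congrArg (polar Q y) hg
    rw [polar_zero_right, ← polarBilin_apply', map_sum] at this
    simpa [polarBilin_apply', polar_smul_right'] using this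
  have hba : ∀ i j, polar Q (b i) (a j) = if j = i then 1 else 0 := fun i j => by
    rw [polar_comm, P.ab]
  have fe : polar Q f e = 1 := by rw [polar_comm]; exact P.ef
  intro i
  fin_cases i
  · have := key (b 0); simpa [Fin.sum_univ_eight, hba, P.bb, P.be, P.bf] using this
  · have := key (b 1); simpa [Fin.sum_univ_eight, hba, P.bb, P.be, P.bf] using this
  · have := key (b 2); simpa [Fin.sum_univ_eight, hba, P.bb, P.be, P.bf] using this
  · have := key (a 0); simpa [Fin.sum_univ_eight, P.ab, P.aa, P.ae, P.af] using this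
  · have := key (a 1); simpa [Fin.sum_univ_eight, P.ab, P.aa, P.ae, P.af] using this
  · have := key (a 2); simpa [Fin.sum_univ_eight, P.ab, P.aa, P.ae, P.af] using this
  · have := key f
    simpa [Fin.sum_univ_eight, fe, M.polar_self, fun j => (polar_comm (⇑Q) f (a j)).trans (P.af j),
      fun j => (polar_comm (⇑Q) f (b j)).trans (P.bf j)] using this
  · have := key e
    simpa [Fin.sum_univ_eight, P.ef, M.polar_self, fun j => (polar_comm (⇑Q) e (a j)).trans (P.ae j),
      fun j => (polar_comm (⇑Q) e (b j)).trans (P.be j)] using this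

theorem exists_cycle : ∃ g : commutator (O Q), g ^ 3 = 1 ∧
    (∀ i, ap g (a i) = a (i + 1)) ∧ (∀ i, ap g (b i) = b (i + 1)) ∧ ap g e = e ∧ ap g f = f := by
  set v := ![a 0, a 1, a 2, b 0, b 1, b 2, e, f] with hv
  set w := ![a 1, a 2, a 0, b 1, b 2, b 0, e, f] with hw
  have hli := li_planes M P
  have hw' : w = v ∘ ![1, 2, 0, 4, 5, 3, 6, 7] := by
    funext i; fin_cases i <;> rfl
  have hliw : LinearIndependent F w := by
    rw [hw']
    exact hli.comp _ (by decide)
  obtain ⟨g, hg⟩ := exists_map_family M.hQ hli hliw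
    (fun i => by fin_cases i <;> simp [hv, hw, P.qa, P.qb])
    (fun i j _ => by
      have hba : ∀ i j, polar Q (b i) (a j) = if j = i then 1 else 0 := fun i j => by
        rw [polar_comm, P.ab]
      fin_cases i <;> fin_cases j <;>
        simp [hv, hw, P.aa, P.bb, P.ab, hba, P.ae, P.af, P.be, P.bf, polar_comm (⇑Q) e (a _),
          polar_comm (⇑Q) f (a _), polar_comm (⇑Q) e (b _), polar_comm (⇑Q) f (b _)])
  have h3 : g ^ 3 = 1 := by
    refine O.ext_app fun x => ?_
    have hspan : Submodule.span F (Set.range v) = ⊤ :=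
      hli.span_eq_top_of_card_eq_finrank (by rw [M.dim]; simp)
    have hx : x ∈ Submodule.span F (Set.range v) := hspan ▸ Submodule.mem_top
    induction hx using Submodule.span_induction with
    | mem y hy =>
      obtain ⟨i, rfl⟩ := hy
      have g0 : (g : V ≃ₗ[F] V) (a 0) = a 1 := hg 0
      have g1 : (g : V ≃ₗ[F] V) (a 1) = a 2 := hg 1
      have g2 : (g : V ≃ₗ[F] V) (a 2) = a 0 := hg 2
      have g3 : (g : V ≃ₗ[F] V) (b 0) = b 1 := hg 3
      have g4 : (g : V ≃ₗ[F] V) (b 1) = b 2 := hg 4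
      have g5 : (g : V ≃ₗ[F] V) (b 2) = b 0 := hg 5
      have g6 : (g : V ≃ₗ[F] V) e = e := hg 6
      have g7 : (g : V ≃ₗ[F] V) f = f := hg 7
      rw [pow_succ, pow_two]
      simp only [Subgroup.coe_mul, Orthogonal.mul_app]
      fin_cases i <;> simp [hv, g0, g1, g2, g3, g4, g5, g6, g7]
    | zero => simp
    | add y z _ _ ay az => rw [map_add, map_add, ay, az]
    | smul c y _ ay => rw [map_smul, map_smul, ay]
  have hmem : g ∈ commutator (O Q) := by
    have hgen := reflGroup_eq_top M.hQ (Or.inr (by rw [M.dim]; omega))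
    rw [commutator_eq_ker_dickson M.hQ hgen M.two_eq, MonoidHom.mem_ker]
    have h := congrArg (dickson M.hQ hgen) h3
    rw [map_pow, map_one] at h
    rcases Int.units_eq_one_or (dickson M.hQ hgen g) with h' | h'
    · exact h'
    · rw [h'] at h; exact absurd h (by decide)
  exact ⟨⟨g, hmem⟩, Subtype.ext h3, fun i => by fin_cases i <;> first | exact hg 0 | exact hg 1 | exact hg 2,
    fun i => by fin_cases i <;> first | exact hg 3 | exact hg 4 | exact hg 5, hg 6, hg 7⟩

theorem rot_apply (i : Fin 3) :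
    ap (rot M a b P i) (a i) = b i ∧ ap (rot M a b P i) (b i) = a i + b i ∧
      ∀ x, polar Q (a i) x = 0 → polar Q (b i) x = 0 → ap (rot M a b P i) x = x := by
  have hab : polar Q (a i) (b i) = 1 := by rw [P.ab, if_pos rfl]
  refine ⟨?_, ?_, fun x h1 h2 => ?_⟩
  · show ((rO Q (a i) * rO Q (b i) : O Q) : V ≃ₗ[F] V) (a i) = b i
    rw [Subgroup.coe_mul, Orthogonal.mul_app, M.rO_one (P.qb i), polar_comm (⇑Q) (b i) (a i), hab,
      one_smul, M.rO_one (P.qa i), polar_add_right, M.polar_self, hab, zero_add, one_smul,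
      add_comm (a i) (b i), add_assoc, M.self_add, add_zero]
  · show ((rO Q (a i) * rO Q (b i) : O Q) : V ≃ₗ[F] V) (b i) = a i + b i
    rw [Subgroup.coe_mul, Orthogonal.mul_app, M.rO_one (P.qb i), M.polar_self, zero_smul, add_zero,
      M.rO_one (P.qa i), hab, one_smul, add_comm]
  · show ((rO Q (a i) * rO Q (b i) : O Q) : V ≃ₗ[F] V) x = x
    rw [Subgroup.coe_mul, Orthogonal.mul_app, rO_fix h2, rO_fix h1]

theorem rot_cube (i : Fin 3) : rot M a b P i ^ 3 = 1 :=
  Subtype.ext (refl_cube M (P.qa i) (P.qb i) (by rw [P.ab, if_pos rfl]))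

theorem rot_other {i j : Fin 3} (h : i ≠ j) :
    ap (rot M a b P i) (a j) = a j ∧ ap (rot M a b P i) (b j) = b j :=
  ⟨(rot_apply M P i).2.2 _ (P.aa i j) (by rw [polar_comm, P.ab, if_neg (Ne.symm h)]),
    (rot_apply M P i).2.2 _ (by rw [P.ab, if_neg h]) (P.bb i j)⟩

theorem rot_commute (i j : Fin 3) : Commute (rot M a b P i) (rot M a b P j) := by
  by_cases h : i = j
  · rw [h]
  refine Subtype.ext (show rO Q (a i) * rO Q (b i) * (rO Q (a j) * rO Q (b j)) = _ from ?_)
  have c1 := refl_comm M (P.aa i j)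
  have c2 : Commute (rO Q (a i)) (rO Q (b j)) := refl_comm M (by rw [P.ab, if_neg h])
  have c3 : Commute (rO Q (b i)) (rO Q (a j)) :=
    refl_comm M (by rw [polar_comm, P.ab, if_neg (Ne.symm h)])
  have c4 := refl_comm M (P.bb i j)
  exact ((c1.mul_right c2).mul_left (c3.mul_right c4)).eq

/-- Powers of the rotation of a plane at a vector of the plane. -/
theorem rot_pow_eq (i : Fin 3) {n m : Fin 3}
    (h : ap (rot M a b P i ^ (n : ℕ)) (a i) = ap (rot M a b P i ^ (m : ℕ)) (a i)) : n = m := by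
  have hab : polar Q (a i) (b i) = 1 := by rw [P.ab, if_pos rfl]
  obtain ⟨h1, h2, -⟩ := rot_apply M P i
  have v : ∀ n : Fin 3, ap (rot M a b P i ^ (n : ℕ)) (a i) = ![a i, b i, a i + b i] n := by
    intro n
    fin_cases n
    · rfl
    · simpa using h1
    · simp [pow_two, ap_mul, h1, h2]
  rw [v, v] at h
  have hA := congrArg (polar Q (a i)) h
  have hB := congrArg (polar Q (b i)) h
  have hba : polar Q (b i) (a i) = 1 := by rw [polar_comm]; exact hab
  fin_cases n <;> fin_cases m <;>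
    simp [polar_add_right, M.polar_self, hab, hba] at hA hB ⊢

/-- The product of the rotations. -/
noncomputable def rotProd (a b : Fin 3 → V) (P : Planes Q a b e f) (n : Fin 3 → ℕ) :
    commutator (O Q) :=
  rot M a b P 0 ^ n 0 * rot M a b P 1 ^ n 1 * rot M a b P 2 ^ n 2

theorem rot_pow_fix {i j : Fin 3} (h : i ≠ j) (n : ℕ) :
    ap (rot M a b P i ^ n) (a j) = a j ∧ ap (rot M a b P i ^ n) (b j) = b j := by
  induction n with
  | zero => exact ⟨rfl, rfl⟩
  | succ n ih =>
    rw [pow_succ, ap_mul, ap_mul, (rot_other M P h).1, (rot_other M P h).2]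
    exact ih

theorem rotProd_app (n : Fin 3 → ℕ) (j : Fin 3) :
    ap (rotProd M a b P n) (a j) = ap (rot M a b P j ^ n j) (a j) := by
  have c : ∀ i k : Fin 3, Commute (rot M a b P i ^ n i) (rot M a b P k ^ n k) :=
    fun i k => (rot_commute M P i k).pow_pow _ _
  unfold rotProd
  fin_cases j
  · show ap _ (a 0) = ap (rot M a b P 0 ^ n 0) (a 0)
    rw [ap_mul, ap_mul, (rot_pow_fix M P (by decide : (2 : Fin 3) ≠ 0) _).1,
      (rot_pow_fix M P (by decide : (1 : Fin 3) ≠ 0) _).1]
  · show ap _ (a 1) = ap (rot M a b P 1 ^ n 1) (a 1)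
    rw [(c 0 1).eq, ap_mul, ap_mul, (rot_pow_fix M P (by decide : (2 : Fin 3) ≠ 1) _).1,
      (rot_pow_fix M P (by decide : (0 : Fin 3) ≠ 1) _).1]
  · show ap _ (a 2) = ap (rot M a b P 2 ^ n 2) (a 2)
    rw [((c 0 2).mul_left (c 1 2)).eq, ap_mul, ap_mul,
      (rot_pow_fix M P (by decide : (1 : Fin 3) ≠ 2) _).1,
      (rot_pow_fix M P (by decide : (0 : Fin 3) ≠ 2) _).1]

theorem rotProd_plane (n : Fin 3 → Fin 3) (j k : Fin 3) (h : j ≠ k) :
    polar Q (a k) (ap (rotProd M a b P fun i => (n i : ℕ)) (a j)) = 0 ∧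
      polar Q (b k) (ap (rotProd M a b P fun i => (n i : ℕ)) (a j)) = 0 := by
  have hx : ap (rot M a b P k ^ 1) (a j) = a j := (rot_pow_fix M P (Ne.symm h) 1).1
  rw [rotProd_app M P]
  have h1 := (rot_pow_fix M P (i := j) h (n j : ℕ))
  constructor
  · conv_lhs => rw [← h1.1]
    rw [ap_polar]
    exact P.aa k j
  · conv_lhs => rw [← h1.2]
    rw [ap_polar, polar_comm, P.ab, if_neg h]

/-- A killed subgroup of order `81`. -/
theorem exists_killed_three {X : Type w} [Group X]
    (E : LExt 3 X (commutator (O Q))) [Finite (commutator (O Q))] :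
    ∃ H : Subgroup (commutator (O Q)), E.Killed H ∧ Nat.card H = 81 := by
  classical
  obtain ⟨σ, hσ3, hσa, hσb, hσe, hσf⟩ := exists_cycle M P
  set c := rot M a b P with hc
  have hc3 := rot_cube M P
  have hcc := rot_commute M P
  have hσc : ∀ i, σ * c i * σ⁻¹ = c (i + 1) := by
    intro i
    refine Subtype.ext ?_
    show (σ : O Q) * (rO Q (a i) * rO Q (b i)) * (σ : O Q)⁻¹ = rO Q (a (i + 1)) * rO Q (b (i + 1))
    rw [conj_mul.symm, conj_rO, conj_rO]
    exact congrArg₂ (fun x y => rO Q x * rO Q y) (hσa i) (hσb i)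
  set u := e + f with hu
  have hqu : Q u = 1 := by rw [hu, map_add_polar, P.qe, P.qf, P.ef, zero_add, zero_add]
  have hua : ∀ i, polar Q (a i) u = 0 := fun i => by rw [hu, polar_add_right, P.ae, P.af, add_zero]
  have hub : ∀ i, polar Q (b i) u = 0 := fun i => by rw [hu, polar_add_right, P.be, P.bf, add_zero]
  have one : ∀ x, Q x = 1 → Q x ≠ 0 := fun x hx => by rw [hx]; exact one_ne_zero
  set t : Fin 3 → commutator (O Q) := fun k =>
    ⟨rO Q (a k) * rO Q u, M.refl_pair (one _ (P.qa k)) (one _ hqu)⟩ with ht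
  set r : commutator (O Q) := t 0 * ⟨rO Q (a 1) * rO Q (a 2),
    M.refl_pair (one _ (P.qa 1)) (one _ (P.qa 2))⟩ with hr
  have cu : ∀ i, Commute (rO Q u) (rO Q (a i) * rO Q (b i)) := fun i =>
    (refl_comm M (by rw [polar_comm]; exact hua i)).mul_right
      (refl_comm M (by rw [polar_comm]; exact hub i))
  have cai : ∀ k i, k ≠ i → Commute (rO Q (a k)) (rO Q (a i) * rO Q (b i)) := fun k i h =>
    (refl_comm M (P.aa k i)).mul_right (refl_comm M (by rw [P.ab, if_neg h]))
  have inv_one_plane : ∀ i, rO Q (a i) * (rO Q (a i) * rO Q (b i)) * (rO Q (a i))⁻¹ =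
      (rO Q (a i) * rO Q (b i))⁻¹ := fun i => by
    rw [← mul_assoc, rO_mul_self, one_mul, mul_inv_rev, rO_inv, rO_inv]
  have ht_self : ∀ k, t k * c k * (t k)⁻¹ = (c k)⁻¹ := fun k => by
    refine Subtype.ext (show (rO Q (a k) * rO Q u) * (rO Q (a k) * rO Q (b k)) *
      (rO Q (a k) * rO Q u)⁻¹ = (rO Q (a k) * rO Q (b k))⁻¹ from ?_)
    rw [mul_inv_rev, mul_assoc (rO Q (a k)) (rO Q u), (cu k).eq, ← inv_one_plane k]
    group
  have ht_other : ∀ k i, k ≠ i → t k * c i * (t k)⁻¹ = c i := fun k i h => by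
    refine Subtype.ext (show (rO Q (a k) * rO Q u) * (rO Q (a i) * rO Q (b i)) *
      (rO Q (a k) * rO Q u)⁻¹ = rO Q (a i) * rO Q (b i) from ?_)
    rw [((cai k i h).mul_left (cu i)).eq, mul_inv_cancel_right]
  have hr_inv : ∀ i, r * c i * r⁻¹ = (c i)⁻¹ := fun i => by
    refine Subtype.ext (show (rO Q (a 0) * rO Q u * (rO Q (a 1) * rO Q (a 2))) *
      (rO Q (a i) * rO Q (b i)) * (rO Q (a 0) * rO Q u * (rO Q (a 1) * rO Q (a 2)))⁻¹ =
      (rO Q (a i) * rO Q (b i))⁻¹ from ?_)
    have e1 : ∀ k i, k ≠ i → rO Q (a k) * (rO Q (a i) * rO Q (b i)) * (rO Q (a k))⁻¹ =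
        rO Q (a i) * rO Q (b i) := fun k i h => by rw [(cai k i h).eq, mul_inv_cancel_right]
    have e2 : ∀ k i, k ≠ i → rO Q (a k) * (rO Q (a i) * rO Q (b i))⁻¹ * (rO Q (a k))⁻¹ =
        (rO Q (a i) * rO Q (b i))⁻¹ := fun k i h => by
      rw [(cai k i h).inv_right.eq, mul_inv_cancel_right]
    have eu : ∀ i, rO Q u * (rO Q (a i) * rO Q (b i)) * (rO Q u)⁻¹ = rO Q (a i) * rO Q (b i) :=
      fun i => by rw [(cu i).eq, mul_inv_cancel_right]
    have eu' : ∀ i, rO Q u * (rO Q (a i) * rO Q (b i))⁻¹ * (rO Q u)⁻¹ =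
        (rO Q (a i) * rO Q (b i))⁻¹ :=
      fun i => by rw [(cu i).inv_right.eq, mul_inv_cancel_right]
    have split : ∀ z : O Q, (rO Q (a 0) * rO Q u * (rO Q (a 1) * rO Q (a 2))) * z *
        (rO Q (a 0) * rO Q u * (rO Q (a 1) * rO Q (a 2)))⁻¹ =
        rO Q (a 0) * (rO Q u * (rO Q (a 1) * (rO Q (a 2) * z * (rO Q (a 2))⁻¹) *
          (rO Q (a 1))⁻¹) * (rO Q u)⁻¹) * (rO Q (a 0))⁻¹ := fun z => by group
    rw [split]
    obtain rfl | rfl | rfl : i = 0 ∨ i = 1 ∨ i = 2 := by omega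
    · show rO Q (a 0) * _ * _ = (rO Q (a 0) * rO Q (b 0))⁻¹
      rw [e1 2 0 (by decide), e1 1 0 (by decide), eu, inv_one_plane]
    · show rO Q (a 0) * _ * _ = (rO Q (a 1) * rO Q (b 1))⁻¹
      rw [e1 2 1 (by decide), inv_one_plane, eu', e2 0 1 (by decide)]
    · show rO Q (a 0) * _ * _ = (rO Q (a 2) * rO Q (b 2))⁻¹
      rw [inv_one_plane, e2 1 2 (by decide), eu', e2 0 2 (by decide)]
  have hrσ : Commute σ r := by
    suffices h : σ * r * σ⁻¹ = r from mul_inv_eq_iff_eq_mul.1 h
    refine Subtype.ext (show (σ : O Q) * (rO Q (a 0) * rO Q u * (rO Q (a 1) * rO Q (a 2))) *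
      (σ : O Q)⁻¹ = rO Q (a 0) * rO Q u * (rO Q (a 1) * rO Q (a 2)) from ?_)
    have hσu : ((σ : O Q) : V ≃ₗ[F] V) u = u := by
      rw [hu, map_add]
      exact congrArg₂ (· + ·) hσe hσf
    rw [← conj_mul, ← conj_mul, ← conj_mul, conj_rO, conj_rO, conj_rO, conj_rO, hσu]
    rw [show ((σ : O Q) : V ≃ₗ[F] V) (a 0) = a 1 from hσa 0,
      show ((σ : O Q) : V ≃ₗ[F] V) (a 1) = a 2 from hσa 1,
      show ((σ : O Q) : V ≃ₗ[F] V) (a 2) = a 0 from hσa 2]
    have c01 := refl_comm M (P.aa 0 1)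
    have c02 := refl_comm M (P.aa 0 2)
    have c12 := refl_comm M (P.aa 1 2)
    have c0u := refl_comm M (hua 0)
    have c1u := refl_comm M (hua 1)
    calc rO Q (a 1) * rO Q u * (rO Q (a 2) * rO Q (a 0))
        = rO Q (a 1) * rO Q u * (rO Q (a 0) * rO Q (a 2)) := by rw [c02.eq]
      _ = rO Q (a 1) * (rO Q u * rO Q (a 0)) * rO Q (a 2) := by simp only [mul_assoc]
      _ = rO Q (a 1) * (rO Q (a 0) * rO Q u) * rO Q (a 2) := by rw [c0u.eq]
      _ = (rO Q (a 1) * rO Q (a 0)) * rO Q u * rO Q (a 2) := by simp only [mul_assoc]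
      _ = (rO Q (a 0) * rO Q (a 1)) * rO Q u * rO Q (a 2) := by rw [c01.eq]
      _ = rO Q (a 0) * (rO Q (a 1) * rO Q u) * rO Q (a 2) := by simp only [mul_assoc]
      _ = rO Q (a 0) * (rO Q u * rO Q (a 1)) * rO Q (a 2) := by rw [c1u.eq]
      _ = _ := by simp only [mul_assoc]
  -- the base group and its lift
  set A : Subgroup (commutator (O Q)) := Subgroup.closure (Set.range c) with hA
  have hAcomm : ∀ x ∈ A, ∀ y ∈ A, Commute x y := by
    intro x hx y hy
    induction hx, hy using Subgroup.closure_induction₂ with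
    | mem x y hx hy =>
      obtain ⟨i, rfl⟩ := hx
      obtain ⟨j, rfl⟩ := hy
      exact hcc i j
    | one_left x => exact Commute.one_left x
    | one_right x => exact Commute.one_right x
    | mul_left x y z _ _ _ h1 h2 => exact h1.mul_left h2
    | mul_right y z x _ _ _ h1 h2 => exact h1.mul_right h2
    | inv_left x y _ _ h => exact h.inv_left
    | inv_right x y _ _ h => exact h.inv_right
  have hpow3 : ∀ z, E.proj z = 1 → z * z = 1 → z = 1 := fun z hz h2 =>
    E.eq_one_of_pow hz (k := 2) (by norm_num) (by rw [pow_two]; exact h2)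
  have inv_trick : ∀ x y y' : commutator (O Q), Commute x y → y' * x * y'⁻¹ = x⁻¹ →
      y' * y * y'⁻¹ = y → E.cm x y = 1 := by
    intro x y g hxy h1 h2
    have hz : E.proj (E.cm x y) = 1 := by
      rw [E.proj_cm, commutatorElement_eq_one_iff_commute.2 hxy]
    have h3 := E.conj_cm (E.proj_lift g) x y
    rw [h1, h2, CExtData.conj_central (E.cm_mem_center hxy)] at h3
    refine hpow3 _ hz ?_
    have h4 := E.cm_mul_left_of_commute (g := x) (g' := x⁻¹) hxy.inv_left
    rw [mul_inv_cancel, E.cm_one_left, ← h3] at h4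
    exact h4.symm
  set L : Subgroup X := Subgroup.closure (Set.range fun i => E.lift (c i)) with hL
  have hLcomm : ∀ x ∈ L, ∀ y ∈ L, Commute x y := by
    intro x hx y hy
    induction hx, hy using Subgroup.closure_induction₂ with
    | mem x y hx hy =>
      obtain ⟨i, rfl⟩ := hx
      obtain ⟨j, rfl⟩ := hy
      by_cases hij : i = j
      · rw [hij]
      · exact E.commute_of_cm (inv_trick _ _ (t i) (hcc i j) (ht_self i) (ht_other i j hij))
          (E.proj_lift _) (E.proj_lift _)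
    | one_left x => exact Commute.one_left x
    | one_right x => exact Commute.one_right x
    | mul_left x y z _ _ _ h1 h2 => exact h1.mul_left h2
    | mul_right y z x _ _ _ h1 h2 => exact h1.mul_right h2
    | inv_left x y _ _ h => exact h.inv_left
    | inv_right x y _ _ h => exact h.inv_right
  have hLA : ∀ x ∈ A, ∃ y ∈ L, E.proj y = x := by
    intro x hx
    have : A ≤ L.map E.proj := by
      rw [hA, Subgroup.closure_le]
      rintro _ ⟨i, rfl⟩
      exact ⟨_, Subgroup.subset_closure ⟨i, rfl⟩, E.proj_lift _⟩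
    exact this hx
  have hσA : ∀ x ∈ A, σ * x * σ⁻¹ ∈ A := by
    intro x hx
    have : A.map (MulAut.conj σ).toMonoidHom ≤ A := by
      rw [hA, MonoidHom.map_closure, Subgroup.closure_le]
      rintro _ ⟨_, ⟨i, rfl⟩, rfl⟩
      exact Subgroup.subset_closure ⟨i + 1, (hσc i).symm⟩
    exact this (Subgroup.mem_map_of_mem _ hx)
  have hrA : ∀ x ∈ A, r * x * r⁻¹ = x⁻¹ := by
    intro x hx
    induction hx using Subgroup.closure_induction with
    | mem x hx => obtain ⟨i, rfl⟩ := hx; exact hr_inv i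
    | one => rw [mul_one, mul_inv_cancel, inv_one]
    | mul x y hx hy ihx ihy =>
      rw [← conj_mul, ihx, ihy, mul_inv_rev]
      exact (hAcomm x hx y hy).inv_inv.eq
    | inv x _ ih => rw [← conj_inv, ih]
  set H : Subgroup (commutator (O Q)) := A ⊔ Subgroup.zpowers σ with hH
  have hn : Subgroup.zpowers σ ≤ Subgroup.normalizer (A : Set (commutator (O Q))) := by
    rw [Subgroup.zpowers_le, Subgroup.mem_normalizer_iff]
    intro x
    refine ⟨hσA x, fun hx => ?_⟩
    have := hσA _ (hσA _ hx)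
    rwa [show σ * (σ * (σ * x * σ⁻¹) * σ⁻¹) * σ⁻¹ = σ ^ 3 * x * (σ ^ 3)⁻¹ by
      rw [pow_succ, pow_two]; group, hσ3, one_mul, inv_one, mul_one] at this
  have hgen : ∀ h ∈ H, ∃ i : ℕ, ∃ x ∈ A, h = x * σ ^ i := by
    intro h hh
    rw [hH, ← SetLike.mem_coe, Subgroup.coe_mul_of_right_le_normalizer_left _ _ hn] at hh
    obtain ⟨x, hx, y, hy, rfl⟩ := hh
    obtain ⟨i, rfl⟩ := Subgroup.mem_zpowers_iff.1 hy
    obtain ⟨k, hk⟩ := zpow_three hσ3 i
    exact ⟨k, x, hx, by rw [hk]⟩
  refine ⟨H, E.killed_abelian_cyclic (N := Subgroup.zpowers 1) (A := A) (LExt.killed_zpowers 1) ?_ ?_ σ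
    ?_ hσA ?_ ?_ hgen, ?_⟩
  · refine ⟨1, Nat.coprime_one_left 3, fun x hx => ?_⟩
    rw [Subgroup.zpowers_one_eq_bot, Subgroup.mem_bot] at hx
    rw [hx, one_pow]; exact one_mem _
  · intro x _ y hy
    rw [Subgroup.zpowers_one_eq_bot, Subgroup.mem_bot] at hy ⊢
    rw [hy, mul_one, mul_inv_cancel]
  · intro y hy
    rw [Subgroup.zpowers_one_eq_bot, Subgroup.mem_bot] at hy ⊢
    rw [hy, mul_one, mul_inv_cancel]
  · intro x hx y hy
    obtain ⟨x', hx', hxe⟩ := hLA x hx
    obtain ⟨y', hy', hye⟩ := hLA y hy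
    rw [E.cm_eq_one_of_commute hxe hye (hLcomm x' hx' y' hy')]
    exact one_mem _
  · intro x hx hfix
    rw [Subgroup.zpowers_one_eq_bot, Subgroup.mem_bot, commutatorElement_eq_one_iff_commute] at hfix
    exact ⟨1, one_mem _, x, (one_mul x).symm, E.cm_symm (inv_trick x σ r hfix.symm (hrA x hx)
      (by rw [← hrσ.eq, mul_inv_cancel_right]))⟩
  · let φ : (Fin 3 → Fin 3) × Fin 3 → H := fun p =>
      ⟨rotProd M a b P (fun i => (p.1 i : ℕ)) * σ ^ (p.2 : ℕ),
        mul_mem (Subgroup.mem_sup_left (mul_mem (mul_mem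
          (pow_mem (Subgroup.subset_closure ⟨0, rfl⟩ : c 0 ∈ A) _)
          (pow_mem (Subgroup.subset_closure ⟨1, rfl⟩ : c 1 ∈ A) _))
          (pow_mem (Subgroup.subset_closure ⟨2, rfl⟩ : c 2 ∈ A) _)))
          (Subgroup.mem_sup_right (Subgroup.npow_mem_zpowers σ _))⟩
    have hσpow : ∀ (m j : Fin 3), ap (σ ^ (m : ℕ)) (a j) = a (j + m) := by
      intro m j
      fin_cases m
      · simp [ap_one]
      · simpa using hσa j
      · simp [pow_two, ap_mul, hσa, add_assoc]
    have hφ : Function.Bijective φ := by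
      refine ⟨?_, fun x => ?_⟩
      · rintro ⟨n, m⟩ ⟨n', m'⟩ h
        have h1 : rotProd M a b P (fun i => (n i : ℕ)) * σ ^ (m : ℕ) =
            rotProd M a b P (fun i => (n' i : ℕ)) * σ ^ (m' : ℕ) := congrArg Subtype.val h
        have h2 := fun j => congrArg (fun g => ap g (a j)) h1
        simp only [ap_mul, hσpow] at h2
        obtain rfl : m = m' := by
          by_contra hm
          have h0 := h2 0
          rw [zero_add, zero_add] at h0
          have hA' := congrArg (polar Q (a m)) h0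
          have hB' := congrArg (polar Q (b m)) h0
          rw [(rotProd_plane M P n' m' m (Ne.symm hm)).1, rotProd_app M P] at hA'
          rw [(rotProd_plane M P n' m' m (Ne.symm hm)).2, rotProd_app M P] at hB'
          have hba : polar Q (b m) (a m) = 1 := by rw [polar_comm, P.ab, if_pos rfl]
          have hab : polar Q (a m) (b m) = 1 := by rw [P.ab, if_pos rfl]
          obtain ⟨h11, h12, -⟩ := rot_apply M P m
          generalize n m = k at hA' hB'
          fin_cases k
          · exact one_ne_zero ((hba.symm.trans (by simpa [ap_one] using hB')) : (1 : F) = 0)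
          · exact one_ne_zero ((hab.symm.trans (by simpa [h11] using hA')) : (1 : F) = 0)
          · simp [pow_two, ap_mul, h11, h12, polar_add_right, M.polar_self, hab] at hA'
        have hn' : n = n' := funext fun j => by
          have h3 := h2 (j - m)
          rw [sub_add_cancel, rotProd_app M P, rotProd_app M P] at h3
          exact rot_pow_eq M P j h3
        rw [hn']
      · obtain ⟨i, y, hy, hxy⟩ := hgen x x.2
        obtain ⟨m, hm⟩ := zpow_three hσ3 (i : ℤ)
        rw [zpow_natCast] at hm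
        have hprod : ∃ n : Fin 3 → ℤ, y = c 0 ^ n 0 * c 1 ^ n 1 * c 2 ^ n 2 := by
          clear hxy
          induction hy using Subgroup.closure_induction with
          | mem z hz =>
            obtain ⟨j, rfl⟩ := hz
            refine ⟨Pi.single j 1, ?_⟩
            fin_cases j <;> simp
          | one => exact ⟨0, by simp⟩
          | mul z w _ _ ihz ihw =>
            obtain ⟨n, rfl⟩ := ihz
            obtain ⟨n', rfl⟩ := ihw
            refine ⟨n + n', ?_⟩
            simp only [Pi.add_apply, zpow_add]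
            have c10 : Commute (c 1 ^ n 1) (c 0 ^ n' 0) := (hcc 1 0).zpow_zpow _ _
            have c20 : Commute (c 2 ^ n 2) (c 0 ^ n' 0) := (hcc 2 0).zpow_zpow _ _
            have c21 : Commute (c 2 ^ n 2) (c 1 ^ n' 1) := (hcc 2 1).zpow_zpow _ _
            calc c 0 ^ n 0 * c 1 ^ n 1 * c 2 ^ n 2 * (c 0 ^ n' 0 * c 1 ^ n' 1 * c 2 ^ n' 2)
                = c 0 ^ n 0 * c 1 ^ n 1 * (c 2 ^ n 2 * c 0 ^ n' 0) * c 1 ^ n' 1 * c 2 ^ n' 2 := by
                  simp only [mul_assoc]
              _ = c 0 ^ n 0 * (c 1 ^ n 1 * c 0 ^ n' 0) * (c 2 ^ n 2 * c 1 ^ n' 1) * c 2 ^ n' 2 := by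
                  rw [c20.eq]; simp only [mul_assoc]
              _ = _ := by rw [c10.eq, c21.eq]; simp only [mul_assoc]
          | inv z _ ih =>
            obtain ⟨n, rfl⟩ := ih
            refine ⟨-n, ?_⟩
            simp only [Pi.neg_apply, zpow_neg, mul_inv_rev]
            have c10 : Commute (c 1 ^ n 1)⁻¹ (c 0 ^ n 0)⁻¹ := ((hcc 1 0).zpow_zpow _ _).inv_inv
            have c20 : Commute (c 2 ^ n 2)⁻¹ ((c 0 ^ n 0)⁻¹ * (c 1 ^ n 1)⁻¹) :=
              ((hcc 2 0).zpow_zpow _ _).inv_inv.mul_right ((hcc 2 1).zpow_zpow _ _).inv_inv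
            rw [c10.eq, c20.eq]
        obtain ⟨n, hn'⟩ := hprod
        choose k hk using fun j => zpow_three (hc3 j) (n j)
        refine ⟨(k, m), Subtype.ext ?_⟩
        show rot M a b P 0 ^ (k 0 : ℕ) * rot M a b P 1 ^ (k 1 : ℕ) * rot M a b P 2 ^ (k 2 : ℕ) *
          σ ^ (m : ℕ) = x
        rw [hxy, hm, hn', hk 0, hk 1, hk 2]
    rw [← Nat.card_congr (Equiv.ofBijective φ hφ)]
    simp

end Cfsg.Agent.H97.Omega.MinusTwo
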