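/-
`Ω⁻₈(2)`: lifted root elements through a singular point commute, and generate a subgroup meeting
the kernel trivially, mapping onto the Eichler group of the point.
-/
import Cfsg.Agent.H97.Omega.MinusTwo.Lift

set_option autoImplicit false
set_option linter.unusedSectionVars false

namespace Cfsg.Agent.H97.Omega.MinusTwo

open QuadraticMap Module
open Cfsg.Agent.Orthogonal Cfsg.Agent.Linear.Mult

universe u v w

variable {F : Type u} {V : Type v} [Field F] [Finite F] [AddCommGroup V] [Module F V]
  [FiniteDimensional F V] {Q : QuadraticForm F V} {X : Type w} [Group X]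

/-- A singular vector orthogonal to the pair `e, f`. -/
structure Sing (Q : QuadraticForm F V) (e f s : V) : Prop where
  q : Q s = 0
  oe : polar Q e s = 0
  ofl : polar Q f s = 0

/-- A hyperbolic pair. -/
structure Pair (Q : QuadraticForm F V) (e f : V) : Prop where
  qe : Q e = 0
  qf : Q f = 0
  ef : polar Q e f = 1

variable (E : CExtData X (commutator (O Q)))

/-- Lifts of the root elements at `e` orthogonal to `f`. -/
noncomputable def rootSub (e f : V) : Subgroup X :=
  Subgroup.closure {x | ∃ s, Sing Q e f s ∧ x = rl E e s}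

variable (M : Minus8 Q) {e f : V} (P : Pair Q e f)
include M P

theorem Sing.line {s : V} (h : Sing Q e f s) : Line Q e s := ⟨P.qe, h.q, h.oe⟩

omit M P in
theorem Sing.add {s t : V} (h : Sing Q e f s) (h' : Sing Q e f t) (hst : polar Q s t = 0) :
    Sing Q e f (s + t) :=
  ⟨by rw [map_add_polar, h.q, h'.q, hst, add_zero, add_zero],
    by rw [polar_add_right, h.oe, h'.oe, add_zero], by rw [polar_add_right, h.ofl, h'.ofl, add_zero]⟩

theorem sing_zero : Sing Q e f 0 :=
  ⟨QuadraticMap.map_zero Q, polar_zero_right (Q := Q) e, polar_zero_right (Q := Q) f⟩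

theorem rl_zero : rl E e (0 : V) = 1 := by
  obtain ⟨a, b, ha, hb, hab, he⟩ := exists_rl E M (Sing.line M P (sing_zero M P))
  rw [he, beta, M.es_zero_left, E.cm_one_right]

theorem commute_of_hyp {s t : V} (hs : Sing Q e f s) (ht : Sing Q e f t) (hst : polar Q s t = 1) :
    Commute (rl E e s) (rl E e t) := by
  have hfr : IsFrame Q ![e, s] ![f, t] := by
    have fe : polar Q f e = 1 := by rw [polar_comm]; exact P.ef
    have sf : polar Q s f = 0 := by rw [polar_comm]; exact hs.ofl
    have se : polar Q s e = 0 := by rw [polar_comm]; exact hs.oe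
    have tf : polar Q t f = 0 := by rw [polar_comm]; exact ht.ofl
    refine ⟨fun i => ?_, fun i => ?_, fun i j => ?_, fun i j => ?_, fun i j => ?_⟩
    · fin_cases i <;> simp [P.qe, hs.q]
    · fin_cases i <;> simp [P.qf, ht.q]
    · fin_cases i <;> fin_cases j <;> simp [P.ef, hst, sf, ht.oe]
    · fin_cases i <;> fin_cases j <;> simp [M.polar_self, hs.oe, se]
    · fin_cases i <;> fin_cases j <;> simp [M.polar_self, ht.ofl, tf]
  have hK := hfr.nondeg_kernel M.hQ
  have h4 : 3 ≤ finrank F (IsFrame.kernel Q ![e, s] ![f, t]) := by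
    have := hfr.finrank_kernel M.hQ
    have := M.dim
    omega
  obtain ⟨a, ha0, ha⟩ := hK.exists_singular h4
  obtain ⟨b, hb, hab⟩ := hK.exists_partner ha0 ha
  rw [polar_restr] at hab
  rw [restr_apply] at ha hb
  have hak := IsFrame.mem_kernel.1 a.2
  have hbk := IsFrame.mem_kernel.1 b.2
  have sa : Sing Q e f (a : V) := ⟨ha, hak.1 0, hak.2 0⟩
  have sb : Sing Q e f (b : V) := ⟨hb, hbk.1 0, hbk.2 0⟩
  have as : polar Q (a : V) s = 0 := by rw [polar_comm]; exact hak.1 1
  have at' : polar Q (a : V) t = 0 := by rw [polar_comm]; exact hak.2 1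
  have bs : polar Q (b : V) s = 0 := by rw [polar_comm]; exact hbk.1 1
  have bt : polar Q (b : V) t = 0 := by rw [polar_comm]; exact hbk.2 1
  have L := fun {s} (h : Sing Q e f s) => Sing.line M P h
  have o1 : polar Q ((a : V) + s) ((b : V) + t) = 0 := by
    simp only [polar_add_left, polar_add_right, hab, hst, at', polar_comm (⇑Q) s b, bs, add_zero, zero_add]
    linear_combination M.two_eq
  have o2 : polar Q ((a : V) + t) ((b : V) + s) = 0 := by
    simp only [polar_add_left, polar_add_right, hab, as, polar_comm (⇑Q) t b, bt,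
      polar_comm (⇑Q) t s, hst, add_zero, zero_add]
    linear_combination M.two_eq
  have e1 := rl_add E M (L (sa.add hs as)) (L (sb.add ht bt)) o1
  have e2 := rl_add E M (L (sa.add ht at')) (L (sb.add hs bs)) o2
  rw [show (a : V) + t + ((b : V) + s) = (a : V) + s + ((b : V) + t) by abel, e1,
    rl_add E M (L sa) (L hs) as, rl_add E M (L sb) (L ht) bt, rl_add E M (L sa) (L ht) at',
    rl_add E M (L sb) (L hs) bs] at e2
  have c1 : rl E e s * rl E e (b : V) = rl E e (b : V) * rl E e s :=
    (rl_commute E M (L sb) (L hs) bs).symm.eq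
  have c2 : rl E e t * rl E e (b : V) = rl E e (b : V) * rl E e t :=
    (rl_commute E M (L sb) (L ht) bt).symm.eq
  have e3 : rl E e (a : V) * rl E e (b : V) * (rl E e s * rl E e t) =
      rl E e (a : V) * rl E e (b : V) * (rl E e t * rl E e s) := by
    calc rl E e (a : V) * rl E e (b : V) * (rl E e s * rl E e t)
        = rl E e (a : V) * (rl E e (b : V) * rl E e s) * rl E e t := by simp only [mul_assoc]
      _ = rl E e (a : V) * (rl E e s * rl E e (b : V)) * rl E e t := by rw [c1]
      _ = rl E e (a : V) * rl E e s * (rl E e (b : V) * rl E e t) := by simp only [mul_assoc]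
      _ = rl E e (a : V) * rl E e t * (rl E e (b : V) * rl E e s) := e2
      _ = rl E e (a : V) * (rl E e t * rl E e (b : V)) * rl E e s := by simp only [mul_assoc]
      _ = rl E e (a : V) * (rl E e (b : V) * rl E e t) * rl E e s := by rw [c2]
      _ = _ := by simp only [mul_assoc]
  exact mul_left_cancel e3

theorem rl_commute_all {s t : V} (hs : Sing Q e f s) (ht : Sing Q e f t) :
    Commute (rl E e s) (rl E e t) := by
  rcases M.bit (polar Q s t) with h | h
  · exact rl_commute E M (Sing.line M P hs) (Sing.line M P ht) h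
  · exact commute_of_hyp E M P hs ht h

/-- A vector of `⟨e, f⟩⊥`. -/
def InW (Q : QuadraticForm F V) (e f w : V) : Prop := polar Q e w = 0 ∧ polar Q f w = 0

omit M in
theorem sing_of_part {u a : V} (hu : InW Q e f u) (ha : Sing Q e f a) (hq : Q u = 1)
    (hau : polar Q a u = 1) (h2 : (2 : F) = 0) : Sing Q e f (a + u) :=
  ⟨by rw [map_add_polar, ha.q, hq, hau]; linear_combination h2,
    by rw [polar_add_right, ha.oe, hu.1, add_zero], by rw [polar_add_right, ha.ofl, hu.2, add_zero]⟩

theorem exists_part {u : V} (hu : InW Q e f u) (hq : Q u = 1) {t : V} (ht : Sing Q e f t)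
    (hut : polar Q u t = 0) : ∃ a, Sing Q e f a ∧ polar Q a u = 1 ∧ polar Q a t = 0 := by
  have hn : u ∉ Submodule.span F {e, f, t} := by
    intro h
    obtain ⟨r, c, d, hd⟩ := Submodule.mem_span_triple.1 h
    have h1 := hu.1
    have h2 := hu.2
    rw [← hd] at h1 h2 hq
    simp only [polar_add_right, polar_smul_right', M.polar_self, P.ef, ht.oe, ht.ofl,
      polar_comm (⇑Q) f e, mul_one, mul_zero, add_zero, zero_add] at h1 h2
    simp [h1, h2, qmap_smul, ht.q] at hq
  obtain ⟨a, ha, hua⟩ := M.exists_dual _ hn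
  have hae : polar Q e a = 0 := ha e (Submodule.subset_span (by simp))
  have haf : polar Q f a = 0 := ha f (Submodule.subset_span (by simp))
  have hat : polar Q a t = 0 := by rw [polar_comm]; exact ha t (Submodule.subset_span (by simp))
  rcases M.bit (Q a) with h0 | h1
  · exact ⟨a, ⟨h0, hae, haf⟩, by rw [polar_comm]; exact hua, hat⟩
  · obtain ⟨z, hz, hz1⟩ := M.exists_one_five ![e, f, t, u, a] P.qe
      (by simp [polar_comm (⇑Q) f e, P.ef])
    have z0 : polar Q e z = 0 := hz 0
    have z1 : polar Q f z = 0 := hz 1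
    have z2 : polar Q t z = 0 := hz 2
    have z3 : polar Q u z = 0 := hz 3
    have z4 : polar Q a z = 0 := hz 4
    refine ⟨a + z, ⟨?_, ?_, ?_⟩, ?_, ?_⟩
    · rw [map_add_polar, h1, hz1, z4]; linear_combination M.two_eq
    · rw [polar_add_right, hae, z0, add_zero]
    · rw [polar_add_right, haf, z1, add_zero]
    · rw [polar_add_left, polar_comm (⇑Q) a u, hua, polar_comm (⇑Q) z u, z3, add_zero]
    · rw [polar_add_left, hat, polar_comm (⇑Q) z t, z2, add_zero]

/-- Two decompositions of a non-singular vector give the same product. -/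
theorem part_eq {u a a' : V} (hu : InW Q e f u) (hq : Q u = 1) (ha : Sing Q e f a)
    (hau : polar Q a u = 1) (ha' : Sing Q e f a') (hau' : polar Q a' u = 1) :
    rl E e a * rl E e (a + u) = rl E e a' * rl E e (a' + u) := by
  have L := fun {s} (h : Sing Q e f s) => Sing.line M P h
  have key : ∀ a', Sing Q e f a' → polar Q a' u = 1 → polar Q a a' = 0 →
      rl E e a * rl E e (a + u) = rl E e a' * rl E e (a' + u) := by
    intro a' ha' hau' h0
    have hb := sing_of_part P hu ha hq hau M.two_eq
    have hb' := sing_of_part P hu ha' hq hau' M.two_eq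
    have hbb : polar Q (a + u) (a' + u) = 0 := by
      simp only [polar_add_left, polar_add_right, h0, hau, polar_comm (⇑Q) u a', hau', M.polar_self,
        add_zero, zero_add]
      linear_combination M.two_eq
    have e1 := rl_add E M (L ha) (L ha') h0
    have e2 := rl_add E M (L hb) (L hb') hbb
    rw [show a + u + (a' + u) = a + a' by rw [add_add_add_comm, M.self_add, add_zero], e1] at e2
    have e3 : rl E e (a + u) = rl E e a * rl E e a' * rl E e (a' + u) := by
      rw [e2, mul_assoc, rl_sq E M (L hb'), mul_one]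
    rw [e3, ← mul_assoc, ← mul_assoc, rl_sq E M (L ha), one_mul]
  rcases M.bit (polar Q a a') with h | h
  · exact key a' ha' hau' h
  · have hb' := sing_of_part P hu ha' hq hau' M.two_eq
    have := key (a' + u) hb' (by rw [polar_add_left, hau', M.polar_self, add_zero])
      (by rw [polar_add_right, h, hau]; linear_combination M.two_eq)
    rwa [add_assoc, M.self_add, add_zero, (rl_commute_all E M P hb' ha').eq] at this

omit M P in
/-- `x` is the canonical lift of the Eichler element of `w`. -/
def Good (e f w : V) (x : X) : Prop :=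
  InW Q e f w ∧ (Q w = 0 → x = rl E e w) ∧
    (Q w = 1 → ∀ a, Sing Q e f a → polar Q a w = 1 → x = rl E e a * rl E e (a + w))

omit P in
theorem proj_good {w : V} {x : X} (P : Pair Q e f) (h : Good E e f w x) : E.proj x = es Q e w := by
  obtain ⟨hw, h0, h1⟩ := h
  rcases M.bit (Q w) with hq | hq
  · rw [h0 hq, proj_rl E M ⟨P.qe, hq, hw.1⟩]
  · obtain ⟨a, ha, hau, -⟩ := exists_part M P hw hq (sing_zero M P) (polar_zero_right (Q := Q) w)
    have hb := sing_of_part P hw ha hq hau M.two_eq
    rw [h1 hq a ha hau, map_mul, proj_rl E M (Sing.line M P ha), proj_rl E M (Sing.line M P hb),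
      M.es_mul P.qe ha.oe hb.oe, M.add_add_cancel]

theorem good_mul {w t : V} {x : X} (h : Good E e f w x) (ht : Sing Q e f t) :
    Good E e f (w + t) (x * rl E e t) := by
  obtain ⟨hw, h0, h1⟩ := h
  have L := fun {s} (h : Sing Q e f s) => Sing.line M P h
  have hwt : InW Q e f (w + t) :=
    ⟨by rw [polar_add_right, hw.1, ht.oe, add_zero], by rw [polar_add_right, hw.2, ht.ofl, add_zero]⟩
  have hq' : Q (w + t) = Q w + polar Q w t := by rw [map_add_polar, ht.q, add_zero]
  rcases M.bit (Q w) with hq | hq <;> rcases M.bit (polar Q w t) with hb | hb <;>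
    rw [hq, hb] at hq'
  · -- singular, orthogonal
    refine ⟨hwt, fun _ => ?_, fun h => absurd h (by rw [hq', add_zero]; exact zero_ne_one)⟩
    rw [h0 hq, rl_add E M (L ⟨hq, hw.1, hw.2⟩) (L ht) hb]
  · -- singular, hyperbolic
    refine ⟨hwt, fun h => absurd h (by rw [hq', zero_add]; exact one_ne_zero), fun h a ha hau => ?_⟩
    rw [← part_eq E M P hwt h (a := w) ⟨hq, hw.1, hw.2⟩
      (by rw [polar_add_right, M.polar_self, hb, zero_add]) ha hau, M.add_add_cancel, h0 hq]
  · -- non-singular, orthogonal
    refine ⟨hwt, fun h => absurd h (by rw [hq', add_zero]; exact one_ne_zero), fun h a ha hau => ?_⟩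
    obtain ⟨c, hc, hcw, hct⟩ := exists_part M P hw hq ht hb
    have hcw' := sing_of_part P hw hc hq hcw M.two_eq
    have hd : polar Q c (w + t) = 1 := by rw [polar_add_right, hcw, hct, add_zero]
    rw [← part_eq E M P hwt h hc hd ha hau, h1 hq c hc hcw, mul_assoc,
      ← rl_add E M (L hcw') (L ht) (by rw [polar_add_left, hct, hb, add_zero]), add_assoc c w t]
  · -- non-singular, hyperbolic
    refine ⟨hwt, fun _ => ?_, fun h => absurd h (fun h => by
      rw [hq'] at h; exact one_ne_zero (show (1 : F) = 0 by linear_combination h))⟩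
    have hs := sing_of_part P hw ht hq (by rw [polar_comm]; exact hb) M.two_eq
    rw [h1 hq t ht (by rw [polar_comm]; exact hb), (rl_commute_all E M P ht hs).eq, mul_assoc,
      rl_sq E M (L ht), mul_one, add_comm]

theorem good_one : Good E e f (0 : V) 1 :=
  ⟨⟨polar_zero_right (Q := Q) e, polar_zero_right (Q := Q) f⟩, fun _ => (rl_zero E M P).symm,
    fun h => absurd h (by rw [QuadraticMap.map_zero]; exact zero_ne_one)⟩

theorem exists_good_of_mem {x : X} (hx : x ∈ rootSub E e f) : ∃ w, Good E e f w x := by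
  rw [rootSub] at hx
  induction hx using Subgroup.closure_induction_right with
  | one => exact ⟨0, good_one E M P⟩
  | mul_right y z _ hz ih =>
    obtain ⟨s, hs, rfl⟩ := hz
    obtain ⟨w, hw⟩ := ih
    exact ⟨w + s, good_mul E M P hw hs⟩
  | mul_inv_cancel y z _ hz ih =>
    obtain ⟨s, hs, rfl⟩ := hz
    obtain ⟨w, hw⟩ := ih
    rw [rl_inv E M (Sing.line M P hs)]
    exact ⟨w + s, good_mul E M P hw hs⟩

theorem es_eq_one {w : V} (hw : InW Q e f w) (h : es Q e w = 1) : w = 0 := by
  have h1 := M.es_app P.qe hw.1 f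
  rw [h, ap_one, P.ef, mul_one, polar_comm (⇑Q) w f, hw.2, zero_add, one_smul, add_assoc,
    left_eq_add] at h1
  have h2 : w = Q w • e := (eq_neg_of_add_eq_zero_right h1).trans (M.neg_eq _)
  obtain ⟨c, rfl⟩ : ∃ c : F, w = c • e := ⟨_, h2⟩
  have h3 := hw.2
  rw [polar_smul_right', polar_comm (⇑Q) f e, P.ef, mul_one] at h3
  rw [h3, zero_smul]

/-- The lifted root subgroup meets the kernel trivially. -/
theorem rootSub_inj {x : X} (hx : x ∈ rootSub E e f) (h : E.proj x = 1) : x = 1 := by
  obtain ⟨w, hw⟩ := exists_good_of_mem E M P hx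
  have hp := proj_good E M P hw
  rw [h] at hp
  obtain rfl := es_eq_one M P hw.1 hp.symm
  rw [hw.2.1 (QuadraticMap.map_zero Q), rl_zero E M P]

theorem rootSub_onto {w : V} (hw : InW Q e f w) :
    ∃ x ∈ rootSub E e f, E.proj x = es Q e w := by
  have hmem : ∀ s, Sing Q e f s → rl E e s ∈ rootSub E e f := fun s hs =>
    Subgroup.subset_closure ⟨s, hs, rfl⟩
  rcases M.bit (Q w) with hq | hq
  · exact ⟨_, hmem w ⟨hq, hw.1, hw.2⟩, proj_rl E M ⟨P.qe, hq, hw.1⟩⟩
  · obtain ⟨a, ha, hau, -⟩ := exists_part M P hw hq (sing_zero M P) (polar_zero_right (Q := Q) w)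
    have hb := sing_of_part P hw ha hq hau M.two_eq
    refine ⟨_, mul_mem (hmem a ha) (hmem _ hb), ?_⟩
    rw [map_mul, proj_rl E M (Sing.line M P ha), proj_rl E M (Sing.line M P hb),
      M.es_mul P.qe ha.oe hb.oe, M.add_add_cancel]

/-- Elements over the stabiliser of `e` and `f` normalise the lifted root subgroup. -/
theorem rootSub_conj {y : X} (he : ap (E.proj y) e = e) (hf : ap (E.proj y) f = f) {x : X}
    (hx : x ∈ rootSub E e f) : y * x * y⁻¹ ∈ rootSub E e f := by
  have : (rootSub E e f).map (MulAut.conj y).toMonoidHom ≤ rootSub E e f := by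
    rw [rootSub, MonoidHom.map_closure, Subgroup.closure_le]
    rintro _ ⟨_, ⟨s, hs, rfl⟩, rfl⟩
    refine Subgroup.subset_closure ⟨ap (E.proj y) s, ⟨by rw [ap_q]; exact hs.q, ?_, ?_⟩, ?_⟩
    · conv_lhs => rw [← he]
      rw [ap_polar, hs.oe]
    · conv_lhs => rw [← hf]
      rw [ap_polar, hs.ofl]
    · show y * rl E e s * y⁻¹ = _
      rw [rl_conj E M (Sing.line M P hs) rfl, he]
  exact this (Subgroup.mem_map_of_mem _ hx)

end Cfsg.Agent.H97.Omega.MinusTwo
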