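/-
`Ω⁻₈(2)`: a Sylow 2-subgroup lifts to every central extension with kernel of order two.
-/
import Cfsg.Agent.H97.Omega.MinusTwo.Section

set_option autoImplicit false
set_option linter.unusedSectionVars false

namespace Cfsg.Agent.H97.Omega.MinusTwo

open QuadraticMap Module
open Cfsg.Agent.Orthogonal Cfsg.Agent.Linear.Mult

universe u v w

variable {F : Type u} {V : Type v} [Field F] [Finite F] [AddCommGroup V] [Module F V]
  [FiniteDimensional F V] {Q : QuadraticForm F V} {X : Type w} [Group X]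

/-- The kernel of the first `k` pairs of a frame. -/
abbrev Tail (Q : QuadraticForm F V) (e f : Fin 3 → V) (k : ℕ) (hk : k ≤ 3) : Submodule F V :=
  IsFrame.kernel Q (e ∘ Fin.castLE hk) (f ∘ Fin.castLE hk)

theorem mem_tail {e f : Fin 3 → V} {k : ℕ} {hk : k ≤ 3} {x : V} :
    x ∈ Tail Q e f k hk ↔
      ∀ i : Fin 3, (i : ℕ) < k → polar Q (e i) x = 0 ∧ polar Q (f i) x = 0 := by
  rw [IsFrame.mem_kernel]
  constructor
  · intro h i hi
    exact ⟨h.1 ⟨i, hi⟩, h.2 ⟨i, hi⟩⟩
  · intro h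
    exact ⟨fun j => (h (Fin.castLE hk j) j.2).1, fun j => (h (Fin.castLE hk j) j.2).2⟩

variable (E : CExtData X (commutator (O Q))) (M : Minus8 Q) {e f : Fin 3 → V}
  (hf : IsFrame Q e f)

/-- The lifted Eichler group of the `i`-th point on the tail. -/
noncomputable def level (e f : Fin 3 → V) (i : Fin 3) : Subgroup X :=
  rootSub E (e i) (f i) ⊓
    (Subgroup.closure {g | ∃ w ∈ Tail Q e f (i + 1) i.2, g = es Q (e i) w}).comap E.proj

include M hf

theorem pair (i : Fin 3) : Pair Q (e i) (f i) := ⟨hf.qe i, hf.qf i, by simp [hf.ef]⟩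

theorem tail_inW {i : Fin 3} {w : V} (hw : w ∈ Tail Q e f (i + 1) i.2) :
    InW Q (e i) (f i) w := mem_tail.1 hw i (Nat.lt_succ_self _)

theorem es_of_closure {i : Fin 3} {g : commutator (O Q)}
    (hg : g ∈ Subgroup.closure {g | ∃ w ∈ Tail Q e f (i + 1) i.2, g = es Q (e i) w}) :
    ∃ w ∈ Tail Q e f (i + 1) i.2, g = es Q (e i) w := by
  induction hg using Subgroup.closure_induction with
  | mem g hg => exact hg
  | one => exact ⟨0, Submodule.zero_mem _, (M.es_zero _ (hf.qe i)).symm⟩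
  | mul a b _ _ iha ihb =>
    obtain ⟨v, hv, rfl⟩ := iha
    obtain ⟨w, hw, rfl⟩ := ihb
    exact ⟨v + w, Submodule.add_mem _ hv hw,
      M.es_mul (hf.qe i) (tail_inW M hf hv).1 (tail_inW M hf hw).1⟩
  | inv a _ iha =>
    obtain ⟨v, hv, rfl⟩ := iha
    exact ⟨v, hv, M.es_inv (hf.qe i) (tail_inW M hf hv).1⟩

theorem exists_es {i : Fin 3} {x : X} (hx : x ∈ level E e f i) :
    ∃ w ∈ Tail Q e f (i + 1) i.2, E.proj x = es Q (e i) w :=
  es_of_closure M hf hx.2

theorem exists_level {i : Fin 3} {w : V} (hw : w ∈ Tail Q e f (i + 1) i.2) :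
    ∃ x ∈ level E e f i, E.proj x = es Q (e i) w := by
  obtain ⟨x, hx, hp⟩ := rootSub_onto E M (pair M hf i) (tail_inW M hf hw)
  exact ⟨x, ⟨hx, Subgroup.subset_closure ⟨w, hw, hp⟩⟩, hp⟩

theorem level_inj {i : Fin 3} {x : X} (hx : x ∈ level E e f i) (h : E.proj x = 1) : x = 1 :=
  rootSub_inj E M (pair M hf i) hx.1 h

theorem es_inj {i : Fin 3} {v w : V} (hv : v ∈ Tail Q e f (i + 1) i.2)
    (hw : w ∈ Tail Q e f (i + 1) i.2) (h : es Q (e i) v = es Q (e i) w) : v = w := by
  have h0 := es_eq_one M (pair M hf i) (tail_inW M hf (Submodule.add_mem _ hv hw)) (by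
    rw [← M.es_mul (hf.qe i) (tail_inW M hf hv).1 (tail_inW M hf hw).1, h,
      M.es_sq (hf.qe i) (tail_inW M hf hw).1])
  exact (eq_neg_of_add_eq_zero_left h0).trans (M.neg_eq _)

theorem card_level (i : Fin 3) :
    Nat.card (level E e f i) = 2 ^ (6 - 2 * (i : ℕ)) := by
  have hfr : IsFrame Q (e ∘ Fin.castLE i.2) (f ∘ Fin.castLE i.2) :=
    ⟨fun j => hf.qe _, fun j => hf.qf _, fun j k => by
      simp only [Function.comp_apply, hf.ef, Fin.castLE_inj],
      fun j k => hf.ee _ _, fun j k => hf.ff _ _⟩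
  choose x hx hp using fun w : Tail Q e f (i + 1) i.2 => exists_level E M hf w.2
  have hb : Function.Bijective (fun w => (⟨x w, hx w⟩ : level E e f i)) := by
    refine ⟨fun v w h => ?_, fun y => ?_⟩
    · have h1 : x v = x w := congrArg Subtype.val h
      exact Subtype.ext (es_inj M hf v.2 w.2 (by rw [← hp, ← hp, h1]))
    · obtain ⟨w, hw, hwy⟩ := exists_es E M hf y.2
      refine ⟨⟨w, hw⟩, Subtype.ext (mul_inv_eq_one.1 (level_inj E M hf
        (mul_mem (hx _) (inv_mem y.2)) ?_))⟩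
      rw [map_mul, map_inv, hp, hwy, mul_inv_cancel]
  rw [← Nat.card_congr (Equiv.ofBijective _ hb), natCard_eq_pow, M.two]
  have h1 : finrank F (Tail Q e f (i + 1) i.2) + 2 * ((i : ℕ) + 1) = finrank F V :=
    hfr.finrank_kernel M.hQ
  have := M.dim
  congr 1
  omega

/-- Later levels fix the earlier pairs. -/
theorem level_fix {i j : Fin 3} (hij : i < j) {y : X} (hy : y ∈ level E e f j) :
    ap (E.proj y) (e i) = e i ∧ ap (E.proj y) (f i) = f i := by
  obtain ⟨w, hw, hp⟩ := exists_es E M hf hy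
  have hi := mem_tail.1 hw i (Nat.lt_succ_of_lt hij)
  have hji := ne_of_gt hij
  rw [hp]
  constructor <;> refine M.es_fix (hf.qe j) (tail_inW M hf hw).1 ?_ (by rw [polar_comm]; first
    | exact hi.1 | exact hi.2) <;> simp [hf.ef, hf.ee, hji]

theorem level_conj {i j : Fin 3} (hij : i < j) {y : X} (hy : y ∈ level E e f j) {x : X}
    (hx : x ∈ level E e f i) : y * x * y⁻¹ ∈ level E e f i := by
  refine ⟨rootSub_conj E M (pair M hf i) (level_fix E M hf hij hy).1 (level_fix E M hf hij hy).2 hx.1, ?_⟩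
  obtain ⟨v, hv, hp⟩ := exists_es E M hf hx
  show E.proj (y * x * y⁻¹) ∈ Subgroup.closure _
  rw [map_mul, map_mul, map_inv, hp, M.es_conj (hf.qe i) (tail_inW M hf hv).1,
    (level_fix E M hf hij hy).1]
  refine Subgroup.subset_closure ⟨_, mem_tail.2 fun k hk => ?_, rfl⟩
  have hkj : k < j := lt_of_le_of_lt (show k ≤ i from Nat.lt_succ_iff.1 hk) hij
  have hv' := mem_tail.1 hv k hk
  constructor
  · conv_lhs => rw [← (level_fix E M hf hkj hy).1]
    rw [ap_polar, hv'.1]
  · conv_lhs => rw [← (level_fix E M hf hkj hy).2]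
    rw [ap_polar, hv'.2]

/-- The product of the three levels. -/
theorem exists_two_lift : ∃ H : Subgroup X,
    (∀ x ∈ H, E.proj x = 1 → x = 1) ∧ Nat.card H = 2 ^ 12 := by
  set A := level E e f 0 with hA
  set B := level E e f 1 with hB
  set C := level E e f 2 with hC
  have n1 : B ≤ Subgroup.normalizer (A : Set X) := by
    intro y hy
    rw [Subgroup.mem_normalizer_iff]
    intro x
    refine ⟨fun hx => level_conj E M hf (by decide) hy hx, fun hx => ?_⟩
    have := level_conj E M hf (i := 0) (by decide) (inv_mem hy) hx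
    rwa [inv_inv, show y⁻¹ * (y * x * y⁻¹) * y = x by group] at this
  have n2 : C ≤ Subgroup.normalizer ((A ⊔ B : Subgroup X) : Set X) := by
    have key : ∀ y ∈ C, (A ⊔ B).map (MulAut.conj y).toMonoidHom ≤ A ⊔ B := by
      intro y hy
      rw [Subgroup.map_sup]
      refine sup_le_sup ?_ ?_ <;>
      · rintro _ ⟨x, hx, rfl⟩
        exact level_conj E M hf (by decide) hy hx
    intro y hy
    rw [Subgroup.mem_normalizer_iff]
    intro x
    refine ⟨fun hx => key y hy (Subgroup.mem_map_of_mem _ hx), fun hx => ?_⟩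
    have := key y⁻¹ (inv_mem hy) (Subgroup.mem_map_of_mem _ hx)
    simpa [MulAut.conj, mul_assoc] using this
  have hmem : ∀ x ∈ A ⊔ B ⊔ C, ∃ a ∈ A, ∃ b ∈ B, ∃ c ∈ C, x = a * b * c := by
    intro x hx
    rw [← SetLike.mem_coe, Subgroup.coe_mul_of_right_le_normalizer_left _ _ n2] at hx
    obtain ⟨y, hy, c, hc, rfl⟩ := hx
    rw [Subgroup.coe_mul_of_right_le_normalizer_left _ _ n1] at hy
    obtain ⟨a, ha, b, hb, rfl⟩ := hy
    exact ⟨a, ha, b, hb, c, hc, rfl⟩
  have key : ∀ a ∈ A, ∀ b ∈ B, ∀ c ∈ C, E.proj (a * b * c) = 1 → a = 1 ∧ b = 1 ∧ c = 1 := by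
    intro a ha b hb c hc h
    rw [map_mul, map_mul] at h
    obtain ⟨u, hu, pa⟩ := exists_es E M hf ha
    obtain ⟨v, hv, pb⟩ := exists_es E M hf hb
    have hfa : ap (E.proj a) (f 0) = f 0 := by
      have := congrArg (fun g => ap g (f 0)) h
      simp only [ap_mul, ap_one] at this
      rwa [(level_fix E M hf (by decide) hc).2, (level_fix E M hf (by decide) hb).2] at this
    have zero : ∀ {i : Fin 3} {u : V}, u ∈ Tail Q e f (i + 1) i.2 →
        ap (es Q (e i) u) (f i) = f i → u = 0 := by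
      intro i u hu hfx
      have hW := tail_inW M hf hu
      have h1 := hfx
      rw [M.es_app (hf.qe i) hW.1, (pair M hf i).ef, mul_one, polar_comm (⇑Q) u (f i), hW.2,
        zero_add, one_smul, add_assoc, add_eq_left] at h1
      obtain ⟨c, rfl⟩ : ∃ c : F, u = c • e i :=
        ⟨_, (eq_neg_of_add_eq_zero_right h1).trans (M.neg_eq _)⟩
      have h3 := hW.2
      rw [polar_smul_right', polar_comm (⇑Q) (f i) (e i), (pair M hf i).ef, mul_one] at h3
      rw [h3, zero_smul]
    have hu0 : u = 0 := zero (i := 0) hu (by rw [← pa]; exact hfa)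
    have pa1 : E.proj a = 1 := by rw [pa, hu0, M.es_zero _ (hf.qe 0)]
    rw [pa1, one_mul] at h
    have hfb : ap (E.proj b) (f 1) = f 1 := by
      have := congrArg (fun g => ap g (f 1)) h
      simp only [ap_mul, ap_one] at this
      rwa [(level_fix E M hf (by decide) hc).2] at this
    have hv0 : v = 0 := zero (i := 1) hv (by rw [← pb]; exact hfb)
    have pb1 : E.proj b = 1 := by rw [pb, hv0, M.es_zero _ (hf.qe 1)]
    rw [pb1, one_mul] at h
    exact ⟨level_inj E M hf ha pa1, level_inj E M hf hb pb1, level_inj E M hf hc h⟩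
  refine ⟨A ⊔ B ⊔ C, fun x hx h => ?_, ?_⟩
  · obtain ⟨a, ha, b, hb, c, hc, rfl⟩ := hmem x hx
    obtain ⟨rfl, rfl, rfl⟩ := key a ha b hb c hc h
    simp
  · let φ : A × B × C → (A ⊔ B ⊔ C : Subgroup X) := fun t => ⟨t.1 * t.2.1 * t.2.2,
      mul_mem (Subgroup.mem_sup_left (mul_mem (Subgroup.mem_sup_left t.1.2)
        (Subgroup.mem_sup_right t.2.1.2))) (Subgroup.mem_sup_right t.2.2.2)⟩
    have hφ : Function.Bijective φ := by
      refine ⟨fun s t h => ?_, fun x => ?_⟩
      · obtain ⟨⟨a, ha⟩, ⟨b, hb⟩, ⟨c, hc⟩⟩ := s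
        obtain ⟨⟨a', ha'⟩, ⟨b', hb'⟩, ⟨c', hc'⟩⟩ := t
        have h1 : a * b * c = a' * b' * c' := congrArg Subtype.val h
        have h2 : (a'⁻¹ * a) * b * (c * c'⁻¹) = b' := by
          calc (a'⁻¹ * a) * b * (c * c'⁻¹) = a'⁻¹ * (a * b * c) * c'⁻¹ := by group
            _ = b' := by rw [h1]; group
        have h5 : (b'⁻¹ * (a'⁻¹ * a) * b') * (b'⁻¹ * b) * (c * c'⁻¹) = 1 := by
          calc _ = b'⁻¹ * ((a'⁻¹ * a) * b * (c * c'⁻¹)) := by group
            _ = 1 := by rw [h2, inv_mul_cancel]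
        have hconj := level_conj E M hf (i := 0) (j := 1) (by decide) (inv_mem hb')
          (mul_mem (inv_mem ha') ha)
        rw [inv_inv] at hconj
        obtain ⟨e1, e2, -⟩ := key _ hconj _ (mul_mem (inv_mem hb') hb) _
          (mul_mem hc (inv_mem hc')) (by rw [h5, map_one])
        obtain rfl : b' = b := inv_mul_eq_one.1 e2
        have ea : a'⁻¹ * a = 1 := by
          calc a'⁻¹ * a = b' * (b'⁻¹ * (a'⁻¹ * a) * b') * b'⁻¹ := by group
            _ = 1 := by rw [e1]; group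
        obtain rfl : a' = a := inv_mul_eq_one.1 ea
        obtain rfl := mul_left_cancel h1
        rfl
      · obtain ⟨a, ha, b, hb, c, hc, he⟩ := hmem x x.2
        exact ⟨⟨⟨a, ha⟩, ⟨b, hb⟩, ⟨c, hc⟩⟩, Subtype.ext he.symm⟩
    rw [← Nat.card_congr (Equiv.ofBijective φ hφ), Nat.card_prod, Nat.card_prod, hA, hB, hC,
      card_level E M hf, card_level E M hf, card_level E M hf]
    norm_num

end Cfsg.Agent.H97.Omega.MinusTwo
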