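/-
The multiplier of `Ω⁻₈(2)` is trivial.
-/
import Cfsg.Agent.H97.Omega.MinusTwo.Two
import Cfsg.Agent.H97.Omega.MinusTwo.Three
import Cfsg.Agent.H97.Omega.EvenMain
import Cfsg.Agent.Orthogonal.Order

set_option autoImplicit false
set_option linter.unusedSectionVars false

namespace Cfsg.Agent.H97.Omega.MinusTwo

open QuadraticMap Module
open Cfsg.Agent.Orthogonal Cfsg.Agent.Linear.Mult

universe u v

variable {F : Type u} {V : Type v} [Field F] [Finite F] [AddCommGroup V] [Module F V]
  [FiniteDimensional F V] {Q : QuadraticForm F V}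

theorem minus8_of_frame (hQ : Nondeg Q) (h2 : Nat.card F = 2) (h8 : finrank F V = 8)
    {e f : Fin 3 → V} (hf : IsFrame Q e f) (ha : Aniso Q (IsFrame.kernel Q e f)) : Minus8 Q := by
  refine ⟨hQ, h2, h8, fun W hW => ?_⟩
  set W₀ := Submodule.span F (Set.range e) with hW₀
  have h0 : TotSing Q W₀ := by
    have hp : ∀ x ∈ W₀, ∀ y ∈ W₀, polar Q x y = 0 := by
      intro x hx y hy
      induction hx, hy using Submodule.span_induction₂ with
      | mem_mem x y hx hy =>
        obtain ⟨i, rfl⟩ := hx
        obtain ⟨j, rfl⟩ := hy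
        exact hf.ee i j
      | zero_left y hy => exact polar_zero_left (Q := Q) y
      | zero_right x hx => exact polar_zero_right (Q := Q) x
      | add_left x y z _ _ _ h1 h2 => rw [polar_add_left, h1, h2, add_zero]
      | add_right x y z _ _ _ h1 h2 => rw [polar_add_right, h1, h2, add_zero]
      | smul_left r x y _ _ h => rw [polar_smul_left', h, mul_zero]
      | smul_right r x y _ _ h => rw [polar_smul_right', h, mul_zero]
    intro w hw
    induction hw using Submodule.span_induction with
    | mem y hy => obtain ⟨i, rfl⟩ := hy; exact hf.qe i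
    | zero => exact QuadraticMap.map_zero Q
    | add y z hy hz ay az => rw [map_add_polar, ay, az, hp y hy z hz, add_zero, add_zero]
    | smul r y _ ay => rw [qmap_smul, ay, mul_zero]
  have h3 : finrank F W₀ = 3 := by
    rw [hW₀, finrank_span_eq_card (R := F)]
    · simp
    · exact hf.linearIndependent.comp Sum.inl Sum.inl_injective
  have hmax : ∀ U, W₀ ≤ U → TotSing Q U → U = W₀ := by
    intro U hle hU
    refine le_antisymm (fun x hx => ?_) hle
    have he : ∀ i, e i ∈ U := fun i => hle (Submodule.subset_span ⟨i, rfl⟩)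
    have hex : ∀ i, polar Q (e i) x = 0 := fun i => hU.polar_eq (he i) hx
    set y := x - ∑ i, polar Q (f i) x • e i with hy
    have hs : ∑ i, polar Q (f i) x • e i ∈ W₀ :=
      Submodule.sum_mem _ fun i _ => Submodule.smul_mem _ _ (Submodule.subset_span ⟨i, rfl⟩)
    have hyU : y ∈ U := U.sub_mem hx (hle hs)
    have hyK : y ∈ IsFrame.kernel Q e f := by
      rw [IsFrame.mem_kernel]
      refine ⟨fun i => hU.polar_eq (he i) hyU, fun i => ?_⟩
      rw [hy, polar_sub_right, ← polarBilin_apply' (Q := Q) (f i) (∑ j, _), map_sum]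
      simp [polarBilin_apply', polar_smul_right', hf.fe]
    have h0 := ha y hyK (hU y hyU)
    rw [hy, sub_eq_zero] at h0
    rw [h0]; exact hs
  by_contra hc
  have hW2 := hW.two_mul_finrank_le hQ
  have hmaxW : ∀ U, W ≤ U → TotSing Q U → U = W := fun U hle hU => by
    have := hU.two_mul_finrank_le hQ
    exact (Submodule.eq_of_le_of_finrank_le hle (by omega)).symm
  have := TotSing.finrank_eq_of_maximal hQ hW h0 hmaxW hmax
  omega

theorem card_omega8 (M : Minus8 Q) {e f : Fin 3 → V} (hf : IsFrame Q e f)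
    (ha : Aniso Q (IsFrame.kernel Q e f)) : Nat.card (commutator (O Q)) = 197406720 := by
  have h := card_O_minus 3 Q M.hQ hf ha (by rw [M.dim])
  have hi := index_commutator_eq_two M.hQ (reflGroup_eq_top M.hQ (Or.inr (by rw [M.dim]; omega)))
    M.two_eq (by rw [M.dim]; omega)
  rw [← Subgroup.card_mul_index (commutator (O Q)), hi, M.two] at h
  norm_num [oprod, Finset.prod_range_succ] at h
  omega

/-- A subgroup of `Ω` with a lift meeting the kernel trivially is killed. -/
theorem killed_of_lift {l : ℕ} {X : Type*} {G : Type*} [Group X] [Group G] (E : LExt l X G)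
    (L : Subgroup X) (hinj : ∀ x ∈ L, E.proj x = 1 → x = 1) : E.Killed (L.map E.proj) := by
  intro z hz h1
  refine hinj z ?_ h1
  have key : ∀ a ∈ E.pre (L.map E.proj), ∃ y ∈ L, ∃ c ∈ Subgroup.center X, a = y * c := by
    rintro a ⟨y, hy, hya⟩
    exact ⟨y, hy, y⁻¹ * a, E.central (by rw [MonoidHom.mem_ker, map_mul, map_inv, hya, inv_mul_cancel]),
      (mul_inv_cancel_left _ _).symm⟩
  have : ⁅E.pre (L.map E.proj), E.pre (L.map E.proj)⁆ ≤ L := by
    rw [Subgroup.commutator_le]
    intro a ha b hb
    obtain ⟨y, hy, c, hc, rfl⟩ := key a ha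
    obtain ⟨y', hy', c', hc', rfl⟩ := key b hb
    rw [commutatorElement_def, Cfsg.Agent.H74.Schur.commutatorElement_mul_central hc hc']
    exact mul_mem (mul_mem (mul_mem hy hy') (inv_mem hy)) (inv_mem hy')
  exact this hz

theorem noStem_omega8 (M : Minus8 Q) {e f : Fin 3 → V} (hf : IsFrame Q e f)
    (ha : Aniso Q (IsFrame.kernel Q e f)) {l : ℕ} (hl : l.Prime) :
    NoStem l (commutator (O Q)) := by
  classical
  have hcard := card_omega8 M hf ha
  have : Finite (commutator (O Q)) := Nat.finite_of_card_ne_zero (by rw [hcard]; norm_num)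
  refine noStem_of_killed hl fun Γ _ _ E => ?_
  by_cases h2 : l = 2
  · subst h2
    obtain ⟨L, hinj, hL⟩ := exists_two_lift E.toCExtData M hf
    refine ⟨L.map E.proj, killed_of_lift E L hinj, fun hd => ?_⟩
    have hc : Nat.card (L.map E.proj) = 2 ^ 12 := by
      rw [← hL]
      refine (Nat.card_congr (Equiv.ofBijective (fun x : L => (⟨E.proj x, ⟨x, x.2, rfl⟩⟩ : L.map E.proj))
        ⟨fun x y h => ?_, ?_⟩)).symm
      · have h1 : E.proj (x : Γ) = E.proj (y : Γ) := congrArg Subtype.val h
        exact Subtype.ext (mul_inv_eq_one.1 (hinj _ (mul_mem x.2 (inv_mem y.2))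
          (by rw [map_mul, map_inv, h1, mul_inv_cancel])))
      · rintro ⟨_, x, hx, rfl⟩
        exact ⟨⟨x, hx⟩, rfl⟩
    have h := Subgroup.card_mul_index (L.map E.proj)
    rw [hc, hcard] at h
    omega
  by_cases h3 : l = 3
  · subst h3
    obtain ⟨a, b, e', f', P⟩ := exists_planes M hf ha
    obtain ⟨H, hH, hc⟩ := exists_killed_three M P E
    refine ⟨H, hH, fun hd => ?_⟩
    have h := Subgroup.card_mul_index H
    rw [hc, hcard] at h
    omega
  have hsq : ¬ l * l ∣ 197406720 := by
    intro h
    have hco : ∀ p : ℕ, p.Prime → l ≠ p → ∀ k, Nat.Coprime (l * l) (p ^ k) := fun p hp hne k =>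
      Nat.Coprime.pow_right k ((((Nat.coprime_primes hl hp).2 hne)).mul_left
        ((Nat.coprime_primes hl hp).2 hne))
    have h' : l * l ∣ 595 := by
      refine (hco 3 Nat.prime_three h3 4).dvd_of_dvd_mul_left ?_
      refine (hco 2 Nat.prime_two h2 12).dvd_of_dvd_mul_left ?_
      simpa using h
    have h24 : l ≤ 24 := by
      have := Nat.le_of_dvd (by norm_num) h'
      nlinarith
    have := hl.two_le
    interval_cases l <;> first | contradiction | norm_num at h'
  by_cases hd : l ∣ Nat.card (commutator (O Q))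
  · have := Fact.mk hl
    obtain ⟨g, hg⟩ := exists_prime_orderOf_dvd_card' (G := commutator (O Q)) l hd
    refine ⟨Subgroup.zpowers g, LExt.killed_zpowers g, fun h => hsq ?_⟩
    have hm := Subgroup.card_mul_index (Subgroup.zpowers g)
    rw [Nat.card_zpowers, hg, hcard] at hm
    rw [← hm]
    exact mul_dvd_mul dvd_rfl h
  · refine ⟨Subgroup.zpowers 1, LExt.killed_zpowers 1, fun h => hd ?_⟩
    rw [Subgroup.zpowers_one_eq_bot, Subgroup.index_bot] at h
    exact h

theorem multLE_omega8 (M : Minus8 Q) {e f : Fin 3 → V} (hf : IsFrame Q e f)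
    (ha : Aniso Q (IsFrame.kernel Q e f)) : MultLE (commutator (O Q)) 1 := by
  have : Finite (commutator (O Q)) :=
    Nat.finite_of_card_ne_zero (by rw [card_omega8 M hf ha]; norm_num)
  exact multLE_one (hasTrivialMultiplier_of_noStem fun _ hl => noStem_omega8 M hf ha hl)

end Cfsg.Agent.H97.Omega.MinusTwo
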